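import Groth.Agent.LocCohLib.ExtComp
import Groth.Agent.TorLib.Balance
import Mathlib.RingTheory.TensorProduct.Finite

/-!
# Maps killing `Ext` and `Tor` in one degree
-/

set_option autoImplicit false
set_option linter.style.haveILetI false
set_option backward.isDefEq.respectTransparency false

universe u

open CategoryTheory Limits TensorProduct MonoidalCategory
open Groth.Agent.LocCohLib Groth.Agent.TorLib

noncomputable section

namespace Groth.Agent.UnivExtLib

variable {R : Type u} [CommRing R] {X X' : ModuleCat.{u} R} (α : X ⟶ X')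
  (P : ProjectiveResolution X) (P' : ProjectiveResolution X') (φ : P.complex ⟶ P'.complex)
  (comm : φ.f 0 ≫ P'.π.f 0 = P.π.f 0 ≫ α) (e : ℕ)


/-- The cokernel of `P'_{e+2} → P'_{e+1}`. -/
abbrev topK : ModuleCat.{u} R :=
  ModuleCat.of R (P'.complex.X (e + 1) ⧸ LinearMap.range (P'.complex.d (e + 1 + 1) (e + 1)).hom)

/-- The composite `P_{e+1} → P'_{e+1} → K`. -/
abbrev topMap : P.complex.X (e + 1) ⟶ topK P' e :=
  φ.f (e + 1) ≫ ModuleCat.ofHom (LinearMap.range (P'.complex.d (e + 1 + 1) (e + 1)).hom).mkQ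

/-- The condition that the top map factors through the differential. -/
def Factors : Prop := ∃ g : P.complex.X e ⟶ topK P' e, P.complex.d (e + 1) e ≫ g = topMap P P' φ e

include comm in
theorem ext_iff_factors :
    (∀ (N : ModuleCat.{u} R) (x : Abelian.Ext.{u} X' N (e + 1)),
      (Abelian.Ext.mk₀ α).comp x (zero_add _) = 0) ↔ Factors P P' φ e := by
  constructor
  · intro h
    let q : cocy P' (topK P' e) (e + 1) :=
      ⟨ModuleCat.ofHom (LinearMap.range (P'.complex.d (e + 1 + 1) (e + 1)).hom).mkQ,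
        ModuleCat.hom_ext (LinearMap.ext fun z => (Submodule.Quotient.mk_eq_zero _).2 ⟨z, rfl⟩)⟩
    have h' := h _ (newMk P' (topK P' e) (e + 1) q)
    rw [newMk_map_left α P P' φ comm, newMk_eq_zero_iff] at h'
    exact h'
  · rintro ⟨g, hg⟩ N x
    obtain ⟨⟨f, hf⟩, rfl⟩ := newMk_surjective P' N (e + 1) x
    rw [newMk_map_left α P P' φ comm, newMk_eq_zero_iff]
    have hle : LinearMap.range (P'.complex.d (e + 1 + 1) (e + 1)).hom ≤ LinearMap.ker f.hom := by
      rintro _ ⟨z, rfl⟩
      exact congr($(hf).hom z)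
    refine ⟨g ≫ ModuleCat.ofHom ((LinearMap.range (P'.complex.d (e + 1 + 1) (e + 1)).hom).liftQ f.hom hle), ?_⟩
    rw [reassoc_of% hg]
    rfl

/-- Tensoring with `N` kills the top map on cycles. -/
def TensorZero : Prop := ∀ (N : Type u) [AddCommGroup N] [Module R N] (z : N ⊗[R] P.complex.X (e + 1)),
  (P.complex.d (e + 1) e).hom.lTensor N z = 0 → (topMap P P' φ e).hom.lTensor N z = 0

theorem tensorZero_of_factors (h : Factors P P' φ e) : TensorZero P P' φ e := by
  obtain ⟨g, hg⟩ := h
  intro N _ _ z hz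
  rw [← hg, ModuleCat.hom_comp, LinearMap.lTensor_comp, LinearMap.comp_apply, hz, map_zero]

theorem factors_of_tensorZero [Module.Finite R (P.complex.X (e + 1))] [Module.Free R (P.complex.X (e + 1))]
    [Module.Finite R (P.complex.X e)] [Module.Free R (P.complex.X e)]
    (h : TensorZero P P' φ e) : Factors P P' φ e := by
  classical
  let d := (P.complex.d (e + 1) e).hom
  let c := (topMap P P' φ e).hom
  let b := Module.Free.chooseBasis R (P.complex.X (e + 1))
  let b' := Module.Free.chooseBasis R (P.complex.X e)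
  let D : Module.Dual R (P.complex.X e) →ₗ[R] Module.Dual R (P.complex.X (e + 1)) := d.dualMap
  let p := (LinearMap.range D).mkQ
  let z : (Module.Dual R (P.complex.X (e + 1)) ⧸ LinearMap.range D) ⊗[R] P.complex.X (e + 1) :=
    ∑ i, p (b.coord i) ⊗ₜ b i
  have hz : d.lTensor _ z = 0 := by
    have h1 : d.lTensor _ z = ∑ j, (∑ i, b'.coord j (d (b i)) • p (b.coord i)) ⊗ₜ[R] b' j := by
      simp only [z, map_sum, LinearMap.lTensor_tmul, sum_tmul, smul_tmul]
      rw [Finset.sum_comm]
      refine Finset.sum_congr rfl fun i _ => ?_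
      rw [← tmul_sum]
      congr 1
      exact (b'.sum_repr (d (b i))).symm
    rw [h1]
    refine Finset.sum_eq_zero fun j _ => ?_
    have h2 : ∑ i, b'.coord j (d (b i)) • p (b.coord i) = p (D (b'.coord j)) := by
      rw [← b.sum_dual_apply_smul_coord (D (b'.coord j)), map_sum]
      simp only [map_smul]
      rfl
    rw [h2, show p (D (b'.coord j)) = 0 from (Submodule.Quotient.mk_eq_zero _).2 ⟨_, rfl⟩, zero_tmul]
  have hcz := h _ z hz
  obtain ⟨y, hy⟩ := (rTensor_exact (topK P' e) (LinearMap.exact_map_mkQ_range D) (Submodule.mkQ_surjective _)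
    (∑ i, b.coord i ⊗ₜ c (b i))).1 (by
      rw [← hcz]
      simp [z, p, c, map_sum])
  have hc : dualTensorHom R (P.complex.X (e + 1)) (topK P' e) (∑ i, b.coord i ⊗ₜ c (b i)) = c := by
    refine b.ext fun j => ?_
    simp [map_sum, dualTensorHom_apply, Finsupp.single_apply]
  have key : dualTensorHom R (P.complex.X (e + 1)) (topK P' e) ∘ₗ D.rTensor (topK P' e) =
      LinearMap.lcomp R (topK P' e) d ∘ₗ dualTensorHom R (P.complex.X e) (topK P' e) := by
    refine TensorProduct.ext' fun a k => LinearMap.ext fun x => ?_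
    simp [D, dualTensorHom_apply]
  refine ⟨ModuleCat.ofHom (dualTensorHom R (P.complex.X e) (topK P' e) y), ModuleCat.hom_ext ?_⟩
  exact (LinearMap.congr_fun key y).symm.trans ((congrArg _ hy).trans hc)

include comm in
/-- Vanishing of the map on `Tor` is the condition on tensor products. -/
theorem tor_right_iff_tensorZero (N : ModuleCat.{u} R) :
    ((Tor (ModuleCat.{u} R) (e + 1)).obj N).map α = 0 ↔
      ∀ z : (N : Type u) ⊗[R] P.complex.X (e + 1),
        (P.complex.d (e + 1) e).hom.lTensor N z = 0 → (topMap P P' φ e).hom.lTensor N z = 0 := by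
  have hn := torIso_nat_left (P := P) (Q := P') N α φ comm (e + 1)
  have h0 : ((Tor (ModuleCat.{u} R) (e + 1)).obj N).map α = 0 ↔
      HomologicalComplex.homologyMap (cxLeft P P' N φ) (e + 1) = 0 := by
    rw [← cancel_mono (torIso P' N (e + 1)).hom, hn, zero_comp, Preadditive.IsIso.comp_left_eq_zero]
  have hnext : (ComplexShape.down ℕ).next (e + 1) = e := ChainComplex.next_nat_succ e
  have hprev : (ComplexShape.down ℕ).prev (e + 1) = e + 1 + 1 := ChainComplex.prev _ _
  have hex : Function.Exact ((P'.complex.d (e + 1 + 1) (e + 1)).hom.lTensor N)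
      ((LinearMap.range (P'.complex.d (e + 1 + 1) (e + 1)).hom).mkQ.lTensor N) :=
    lTensor_exact N (LinearMap.exact_map_mkQ_range _) (Submodule.mkQ_surjective _)
  have htop : ∀ z : (N : Type u) ⊗[R] P.complex.X (e + 1), (topMap P P' φ e).hom.lTensor N z =
      (LinearMap.range (P'.complex.d (e + 1 + 1) (e + 1)).hom).mkQ.lTensor N ((φ.f (e + 1)).hom.lTensor N z) :=
    fun z => by rw [← LinearMap.comp_apply, ← LinearMap.lTensor_comp]; rfl
  rw [h0]
  constructor
  · intro h z hz
    let z' : Zmod (cx P N) (e + 1) := ⟨z, by rw [LinearMap.mem_ker, hnext]; exact hz⟩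
    have := (homologyMap_cls (e + 1) (cxLeft P P' N φ) z').symm.trans
      (congr($(h).hom (cls (cx P N) (e + 1) z')))
    obtain ⟨w, hw⟩ := (cls_eq_zero_iff' (cx P' N) hprev _).1 this
    rw [htop, hex]
    exact ⟨w, hw⟩
  · intro h
    refine ModuleCat.hom_ext (LinearMap.ext fun x => ?_)
    obtain ⟨z, rfl⟩ := cls_surjective (cx P N) (e + 1) x
    rw [homologyMap_cls]
    refine (cls_eq_zero_iff' (cx P' N) hprev _).2 ?_
    have hz := LinearMap.mem_ker.1 z.2
    rw [hnext] at hz
    have h2 := h z.1 hz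
    rw [htop, hex] at h2
    obtain ⟨w, hw⟩ := h2
    exact ⟨w, hw⟩

/-- Vanishing of `Tor` in either variable. -/
theorem tor_left_eq_zero_iff (N : ModuleCat.{u} R) (n : ℕ) :
    ((Tor (ModuleCat.{u} R) n).map α).app N = 0 ↔ ((Tor (ModuleCat.{u} R) n).obj N).map α = 0 := by
  let eX := ((torBalance.{u} R n).app X).app N
  let eX' := ((torBalance.{u} R n).app X').app N
  have h : ((Tor (ModuleCat.{u} R) n).map α).app N ≫ eX'.hom =
      eX.hom ≫ ((Tor (ModuleCat.{u} R) n).obj N).map α :=
    NatTrans.congr_app ((torBalance.{u} R n).hom.naturality α) N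
  constructor <;> intro h0
  · rw [← cancel_epi eX.hom, ← h, h0, zero_comp, comp_zero]
  · rw [← cancel_mono eX'.hom, h, h0, zero_comp, comp_zero]

end Groth.Agent.UnivExtLib
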