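import Groth.Agent.TorLib.Balance
import Groth.Agent.LocCohLib.Cls
import Mathlib.RingTheory.Filtration

/-!
# Uniform vanishing of maps between `Tor` of a filtration
-/

set_option autoImplicit false
set_option linter.style.haveILetI false
set_option backward.isDefEq.respectTransparency false

universe u

open CategoryTheory Limits TensorProduct MonoidalCategory
open Groth.Agent.LocCohLib Groth.Agent.TorLib

noncomputable section

namespace Groth.Agent.UnivExtLib

variable {R : Type u} [CommRing R] {X : ModuleCat.{u} R} (P : ProjectiveResolution X) (j : ℕ)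

/-- The map induced on the homology of `W ⊗ P`. -/
abbrev hm {W W' : ModuleCat.{u} R} (f : W ⟶ W') : (cx P W).homology j ⟶ (cx P W').homology j :=
  HomologicalComplex.homologyMap (cxMap P f) j

theorem hm_comp {W W' W'' : ModuleCat.{u} R} (f : W ⟶ W') (g : W' ⟶ W'') : hm P j (f ≫ g) = hm P j f ≫ hm P j g := by
  rw [← HomologicalComplex.homologyMap_comp]
  exact congrArg (fun φ => HomologicalComplex.homologyMap φ j) (HomologicalComplex.hom_ext _ _ fun n =>
    MonoidalCategory.comp_whiskerRight (W := W) (X := W') (Y := W'') f g (P.complex.X n))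

theorem hm_zero (W W' : ModuleCat.{u} R) : hm P j (0 : W ⟶ W') = 0 := by
  have h : cxMap P (0 : W ⟶ W') = 0 := HomologicalComplex.hom_ext _ _ fun n => MonoidalPreadditive.zero_whiskerRight
  exact (congrArg (fun φ => HomologicalComplex.homologyMap φ j) h).trans (HomologicalComplex.homologyMap_zero _ _ _)

theorem hm_add {W W' : ModuleCat.{u} R} (f g : W ⟶ W') : hm P j (f + g) = hm P j f + hm P j g := by
  rw [← HomologicalComplex.homologyMap_add]
  exact congrArg (fun φ => HomologicalComplex.homologyMap φ j) (HomologicalComplex.hom_ext _ _ fun n =>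
    MonoidalPreadditive.add_whiskerRight f g)

theorem hm_sum {W W' : ModuleCat.{u} R} {ι : Type*} (s : Finset ι) (f : ι → (W ⟶ W')) :
    hm P j (∑ i ∈ s, f i) = ∑ i ∈ s, hm P j (f i) := by
  classical
  induction s using Finset.induction_on with
  | empty => simp [hm_zero]
  | insert a s ha ih => simp [Finset.sum_insert ha, hm_add, ih]

/-- A scalar killing `X` kills the homology. -/
theorem hm_smul_id (W : ModuleCat.{u} R) (b : R) (hb : b • 𝟙 X = 0) : hm P j (b • 𝟙 W) = 0 := by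
  have h1 : cxMap P (b • 𝟙 W) = cxLeft P P W (b • 𝟙 P.complex) := by
    ext n : 1
    refine ModuleCat.hom_ext (TensorProduct.ext' fun w q => ?_)
    exact TensorProduct.smul_tmul b w q
  have h2 := torIso_nat_left (P := P) (Q := P) W (0 : X ⟶ X) (b • 𝟙 P.complex) (by
    refine (?_ : (b • 𝟙 (P.complex.X 0)) ≫ P.π.f 0 = (0 : P.complex.X 0 ⟶ X)).trans comp_zero.symm
    calc (b • 𝟙 (P.complex.X 0)) ≫ P.π.f 0 = (P.π.f 0 : P.complex.X 0 ⟶ X) ≫ (b • 𝟙 X) :=
          ModuleCat.hom_ext (LinearMap.ext fun q => (P.π.f 0).hom.map_smul b q)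
      _ = 0 := by rw [hb, comp_zero]) j
  have h3 := torIso_nat_left (P := P) (Q := P) W (0 : X ⟶ X) (0 : P.complex ⟶ P.complex) (by simp) j
  have h4 : cxLeft P P W (0 : P.complex ⟶ P.complex) = 0 :=
    ((tensorLeft W).mapHomologicalComplex _).map_zero _ _
  rw [h4, HomologicalComplex.homologyMap_zero, comp_zero] at h3
  unfold hm
  rw [h1, ← cancel_epi (torIso P W j).hom, ← h2, h3, comp_zero]

section Seq

variable {S S' : ShortComplex (ModuleCat.{u} R)} (hS : S.ShortExact) (hS' : S'.ShortExact) (ψ : S ⟶ S')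

include hS hS' in
/-- If the map on first terms is zero in degree `j`, classes of degree `j + 1` land in the image of the middle term. -/
theorem mem_range_of_hm (h : hm P j ψ.τ₁ = 0) (x : (cx P S.X₃).homology (j + 1)) :
    ∃ y : (cx P S'.X₂).homology (j + 1), (hm P (j + 1) S'.g).hom y = (hm P (j + 1) ψ.τ₃).hom x := by
  have hex := (cxSeq_shortExact P hS').homology_exact₃ (j + 1) j rfl
  rw [ShortComplex.moduleCat_exact_iff] at hex
  refine hex _ ?_
  have hn := HomologicalComplex.HomologySequence.δ_naturality (cxSeqMap P ψ) (cxSeq_shortExact P hS)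
    (cxSeq_shortExact P hS') (j + 1) j rfl
  refine (congr($(hn).hom x)).symm.trans ?_
  change (hm P j ψ.τ₁).hom _ = 0
  rw [h]
  rfl

include hS hS' in
/-- Dimension shifting for maps: flat middle term. -/
theorem hm_eq_zero_of_flat [Module.Flat R S'.X₂] (h : hm P j ψ.τ₁ = 0) : hm P (j + 1) ψ.τ₃ = 0 := by
  refine ModuleCat.hom_ext (LinearMap.ext fun x => ?_)
  obtain ⟨y, hy⟩ := mem_range_of_hm P j hS hS' ψ h x
  haveI := ModuleCat.subsingleton_of_isZero (isZero_X₂ P (S := S') j)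
  rw [← hy, show y = 0 from Subsingleton.elim _ _, map_zero]
  rfl

end Seq

theorem hm_zero_surjective {W W' : ModuleCat.{u} R} (f : W ⟶ W') (hf : Function.Surjective f.hom) :
    Function.Surjective (hm P 0 f).hom := by
  intro x
  obtain ⟨z, rfl⟩ := cls_surjective (cx P W') 0 x
  obtain ⟨w, hw⟩ := LinearMap.rTensor_surjective (P.complex.X 0) hf z.1
  have hd : (cx P W).d 0 ((ComplexShape.down ℕ).next 0) = 0 := (cx P W).shape _ _ (by simp)
  refine ⟨cls (cx P W) 0 ⟨w, by rw [LinearMap.mem_ker, hd]; rfl⟩, ?_⟩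
  rw [homologyMap_cls]
  exact congrArg _ (Subtype.ext hw)

section Filtration

variable {I : Ideal R} {F : Type u} [AddCommGroup F] [Module R F] (𝓕 : I.Filtration F)

/-- The inclusion between two steps. -/
abbrev incl {k n : ℕ} (h : k ≤ n) : ModuleCat.of R (𝓕.N n) ⟶ ModuleCat.of R (𝓕.N k) :=
  ModuleCat.ofHom (Submodule.inclusion (𝓕.antitone h))

/-- The product filtration. -/
def piFiltration (g : ℕ) : I.Filtration (Fin g → F) where
  N k := Submodule.pi Set.univ fun _ => 𝓕.N k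
  mono k := fun x hx i _ => 𝓕.mono k (hx i trivial)
  smul_le k := Submodule.smul_le.2 fun a ha x hx i _ => 𝓕.smul_le k (Submodule.smul_mem_smul ha (hx i trivial))

theorem piFiltration_stable {g : ℕ} (h : 𝓕.Stable) : (piFiltration 𝓕 g).Stable := by
  classical
  obtain ⟨d, hd⟩ := h
  refine ⟨d, fun n hn => le_antisymm ((piFiltration 𝓕 g).smul_le n) fun x hx => ?_⟩
  rw [← Finset.univ_sum_single x]
  refine Submodule.sum_mem _ fun i _ => ?_
  have hxi : x i ∈ I • 𝓕.N n := (hd n hn).symm ▸ hx i trivial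
  have h2 : Pi.single i (x i) ∈ Submodule.map (LinearMap.single R (fun _ : Fin g => F) i) (I • 𝓕.N n) :=
    ⟨x i, hxi, rfl⟩
  rw [Submodule.map_smul''] at h2
  refine Submodule.smul_mono le_rfl ?_ h2
  rintro _ ⟨y, hy, rfl⟩ l _
  simp only [LinearMap.coe_single, Pi.single_apply]
  split_ifs with hl
  · exact hy
  · exact zero_mem _

variable {g : ℕ} (b : Fin g → R)

/-- `(x_i) ↦ Σ b_i x_i`. -/
abbrev combo : (Fin g → F) →ₗ[R] F := ∑ i, b i • LinearMap.proj i

/-- The relations among the `b_i` in the filtration. -/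
def relFiltration : I.Filtration (Fin g → F) where
  N k := (piFiltration 𝓕 g).N k ⊓ LinearMap.ker (combo b)
  mono k := inf_le_inf_right _ ((piFiltration 𝓕 g).mono k)
  smul_le k := le_inf ((Submodule.smul_mono le_rfl inf_le_left).trans ((piFiltration 𝓕 g).smul_le k))
    (Submodule.smul_le_right.trans inf_le_right)

theorem relFiltration_stable [IsNoetherianRing R] [Module.Finite R F] (h : 𝓕.Stable) :
    (relFiltration 𝓕 b).Stable :=
  (piFiltration_stable 𝓕 h).of_le fun _ => inf_le_left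

theorem combo_mem {m : ℕ} (hb : ∀ i, b i ∈ I ^ m) {k : ℕ} {x : Fin g → F} (hx : x ∈ (piFiltration 𝓕 g).N k) :
    combo b x ∈ 𝓕.N (m + k) := by
  rw [LinearMap.sum_apply]
  exact Submodule.sum_mem _ fun i _ => 𝓕.pow_smul_le m k (Submodule.smul_mem_smul (hb i) (hx i trivial))

variable {m : ℕ} (hb : ∀ i, b i ∈ I ^ m)

/-- The map `N_k^g → N_{m + k}`. -/
abbrev comboK (k : ℕ) : ModuleCat.of R ((piFiltration 𝓕 g).N k) ⟶ ModuleCat.of R (𝓕.N (m + k)) :=
  ModuleCat.ofHom ((combo b).restrict fun _ hx => combo_mem 𝓕 b hb hx)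

theorem comboK_surjective (hspan : Ideal.span (Set.range b) = I ^ m) {k : ℕ}
    (hk : 𝓕.N (m + k) = I ^ m • 𝓕.N k) : Function.Surjective (comboK 𝓕 b hb k).hom := by
  rintro ⟨y, hy⟩
  suffices h : y ∈ Submodule.map (combo b) ((piFiltration 𝓕 g).N k) by
    obtain ⟨x, hx, rfl⟩ := h
    exact ⟨⟨x, hx⟩, rfl⟩
  rw [hk, ← hspan] at hy
  refine (?_ : Ideal.span (Set.range b) • 𝓕.N k ≤ _) hy
  rw [Ideal.span, Submodule.span_smul_eq, Submodule.set_smul_le_iff]
  intro a x ha hx
  obtain ⟨i, rfl⟩ := ha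
  classical
  refine ⟨Pi.single i x, fun l _ => ?_, ?_⟩
  · simp only [Pi.single_apply]
    split_ifs with hl
    · exact hx
    · exact zero_mem _
  · simp [combo, Pi.single_apply]

theorem comboK_incl (k : ℕ) : comboK 𝓕 b hb k ≫ incl 𝓕 (Nat.le_add_left k m) =
    ∑ i, ModuleCat.ofHom ((LinearMap.proj i : (Fin g → F) →ₗ[R] F).restrict (p := (piFiltration 𝓕 g).N k) (q := 𝓕.N k) fun _ hx => hx i trivial) ≫ (b i • 𝟙 (ModuleCat.of R (𝓕.N k))) := by
  refine ModuleCat.hom_ext (LinearMap.ext fun x => Subtype.ext ?_)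
  simp [ModuleCat.hom_sum, LinearMap.sum_apply, combo, incl, comboK]

/-- The sequence `L_k → N_k^g → N_{m + k}`. -/
abbrev relSC (k : ℕ) : ShortComplex (ModuleCat.{u} R) :=
  ShortComplex.mk (ModuleCat.ofHom (Submodule.inclusion (inf_le_left : (relFiltration 𝓕 b).N k ≤ _)))
    (comboK 𝓕 b hb k) (ModuleCat.hom_ext (LinearMap.ext fun x => Subtype.ext x.2.2))

theorem relSC_shortExact (hspan : Ideal.span (Set.range b) = I ^ m) {k : ℕ}
    (hk : 𝓕.N (m + k) = I ^ m • 𝓕.N k) : (relSC 𝓕 b hb k).ShortExact :=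
  shortExact_mk _ _ (Submodule.inclusion_injective _) (comboK_surjective 𝓕 b hb hspan hk) fun x => by
    constructor
    · intro hx
      exact ⟨⟨x.1, x.2, congrArg Subtype.val hx⟩, rfl⟩
    · rintro ⟨y, rfl⟩
      exact Subtype.ext y.2.2

/-- The map between two such sequences. -/
abbrev relSCMap {k k' : ℕ} (h : k ≤ k') : relSC 𝓕 b hb k' ⟶ relSC 𝓕 b hb k :=
  ShortComplex.homMk (incl (relFiltration 𝓕 b) h) (incl (piFiltration 𝓕 g) h)
    (incl 𝓕 (Nat.add_le_add_left h m)) rfl rfl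

omit P in
theorem exists_pow_smul_eq (h : 𝓕.Stable) (m : ℕ) : ∃ d, ∀ k, d ≤ k → 𝓕.N (m + k) = I ^ m • 𝓕.N k := by
  obtain ⟨d, hd⟩ := h
  refine ⟨d, fun k hk => ?_⟩
  induction m with
  | zero => simp
  | succ m ih => rw [Nat.add_right_comm, ← hd (m + k) (by omega), ih, ← mul_smul, ← pow_succ']

end Filtration

/-- Uniform vanishing along a stable filtration, for modules killed by `I ^ m`. -/
theorem exists_hm_incl_eq_zero [IsNoetherianRing R] (I : Ideal R) (m j : ℕ) :
    ∀ (F : Type u) [AddCommGroup F] [Module R F] [Module.Finite R F] (𝓕 : I.Filtration F), 𝓕.Stable →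
      ∃ c, ∀ {X : ModuleCat.{u} R} (P : ProjectiveResolution X), (∀ a ∈ I ^ m, a • 𝟙 X = 0) →
        ∀ (k n : ℕ) (h : k ≤ n), k + c ≤ n → hm P j (incl 𝓕 h) = 0 := by
  obtain ⟨g, b, hspan⟩ := Submodule.fg_iff_exists_fin_generating_family.1 (IsNoetherian.noetherian (I ^ m))
  have hb : ∀ i, b i ∈ I ^ m := fun i => hspan ▸ Submodule.subset_span ⟨i, rfl⟩
  have hcombo : ∀ (F : Type u) [AddCommGroup F] [Module R F] (𝓕 : I.Filtration F) {X : ModuleCat.{u} R}
      (P : ProjectiveResolution X), (∀ a ∈ I ^ m, a • 𝟙 X = 0) → ∀ (j k : ℕ),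
      hm P j (comboK 𝓕 b hb k) ≫ hm P j (incl 𝓕 (Nat.le_add_left k m)) = 0 := fun F _ _ 𝓕 X P hX j k => by
    rw [← hm_comp, comboK_incl, hm_sum]
    exact Finset.sum_eq_zero fun i _ => by rw [hm_comp, hm_smul_id P j _ _ (hX _ (hb i)), comp_zero]
  induction j with
  | zero =>
    intro F _ _ _ 𝓕 h𝓕
    obtain ⟨d, hd⟩ := exists_pow_smul_eq 𝓕 h𝓕 m
    refine ⟨d + m, fun {X} P hX k n h hkn => ?_⟩
    obtain ⟨k', rfl⟩ := Nat.exists_eq_add_of_le (show m ≤ n by omega)
    refine ModuleCat.hom_ext (LinearMap.ext fun x => ?_)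
    obtain ⟨y, rfl⟩ := hm_zero_surjective P _ (comboK_surjective 𝓕 b hb hspan (hd k' (by omega))) x
    rw [show incl 𝓕 h = incl 𝓕 (Nat.le_add_left k' m) ≫ incl 𝓕 (show k ≤ k' by omega) from rfl, hm_comp]
    show (hm P 0 (incl 𝓕 (show k ≤ k' by omega))).hom
      ((hm P 0 (comboK 𝓕 b hb k') ≫ hm P 0 (incl 𝓕 (Nat.le_add_left k' m))).hom y) = 0
    rw [hcombo F 𝓕 P hX]
    exact map_zero _
  | succ j ih =>
    intro F _ _ _ 𝓕 h𝓕
    obtain ⟨d, hd⟩ := exists_pow_smul_eq 𝓕 h𝓕 m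
    obtain ⟨c, hc⟩ := ih (Fin g → F) (relFiltration 𝓕 b) (relFiltration_stable 𝓕 b h𝓕)
    refine ⟨d + c + m, fun {X} P hX k n h hkn => ?_⟩
    obtain ⟨k', rfl⟩ := Nat.exists_eq_add_of_le (show m ≤ n by omega)
    have hk'' : k + d ≤ k' := by omega
    refine ModuleCat.hom_ext (LinearMap.ext fun x => ?_)
    obtain ⟨y, hy⟩ := mem_range_of_hm P j (relSC_shortExact 𝓕 b hb hspan (hd k' (by omega)))
      (relSC_shortExact 𝓕 b hb hspan (hd (k + d) (by omega))) (relSCMap 𝓕 b hb hk'') (hc P hX _ _ hk'' (by omega)) x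
    rw [show incl 𝓕 h = incl 𝓕 (Nat.add_le_add_left hk'' m) ≫ incl 𝓕 (Nat.le_add_left (k + d) m) ≫
      incl 𝓕 (Nat.le_add_right k d) from rfl, hm_comp, hm_comp]
    show (hm P (j + 1) (incl 𝓕 (Nat.le_add_right k d))).hom ((hm P (j + 1) (incl 𝓕 (Nat.le_add_left (k + d) m))).hom
      ((hm P (j + 1) (relSCMap 𝓕 b hb hk'').τ₃).hom x)) = 0
    rw [← hy]
    show (hm P (j + 1) (incl 𝓕 (Nat.le_add_right k d))).hom
      ((hm P (j + 1) (comboK 𝓕 b hb (k + d)) ≫ hm P (j + 1) (incl 𝓕 (Nat.le_add_left (k + d) m))).hom y) = 0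
    rw [hcombo F 𝓕 P hX]
    exact map_zero _

end Groth.Agent.UnivExtLib
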