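import Groth.Agent.CMSliceLib.Poly
import Mathlib.RingTheory.Regular.ProjectiveDimension
import Mathlib.RingTheory.MvPolynomial.Ideal

/-!
# Projective dimension of powers of the ideal of variables
-/

set_option autoImplicit false
set_option linter.style.haveILetI false
set_option backward.isDefEq.respectTransparency false

universe u

open CategoryTheory RingTheory.Sequence MvPolynomial

noncomputable section

namespace Groth.Agent.UnivExtLib

/-- Dividing by a weakly regular sequence raises the projective dimension at most by the length. -/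
theorem pd_quot {P : Type u} [CommRing P] : ∀ (rs : List P) (M : ModuleCat.{u} P) (n : ℕ), IsWeaklyRegular M rs →
    HasProjectiveDimensionLE M n →
    HasProjectiveDimensionLE (ModuleCat.of P (M ⧸ Ideal.ofList rs • (⊤ : Submodule P M))) (n + rs.length)
  | [], M, n, _, h => hasProjectiveDimensionLT_of_iso
      (Submodule.quotEquivOfEqBot _ (by rw [Ideal.ofList_nil, Submodule.bot_smul])).toModuleIso.symm (n + 1)
  | x :: rs, M, n, hreg, h => by
    rw [isWeaklyRegular_cons_iff] at hreg
    have hS : (M.smulShortComplex x).ShortExact := hreg.1.smulShortComplex_shortExact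
    have h1 : HasProjectiveDimensionLE (ModuleCat.of P (QuotSMulTop x M)) (n + 1) :=
      haveI : HasProjectiveDimensionLT M (n + 1) := h
      hS.hasProjectiveDimensionLT_X₃ (n + 1) h (hasProjectiveDimensionLT_of_ge M (n + 1) (n + 2) (by omega))
    have h2 := pd_quot rs (ModuleCat.of P (QuotSMulTop x M)) (n + 1) hreg.2 h1
    rw [List.length_cons, show n + (rs.length + 1) = n + 1 + rs.length by omega]
    exact hasProjectiveDimensionLT_of_iso
      (Submodule.quotOfListConsSMulTopEquivQuotSMulTopInner M x rs).toModuleIso.symm _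

variable (R : Type u) [CommRing R] (t : ℕ)

/-- The quotient by a power of the variables has projective dimension at most their number. -/
theorem pd_pow_idealOfVars : ∀ n : ℕ, HasProjectiveDimensionLE
    (ModuleCat.of (MvPolynomial (Fin t) R) (MvPolynomial (Fin t) R ⧸ idealOfVars (Fin t) R ^ n)) t
  | 0 => by
    haveI : Subsingleton (MvPolynomial (Fin t) R ⧸ idealOfVars (Fin t) R ^ 0) :=
      Submodule.Quotient.subsingleton_iff.2 (by rw [pow_zero, Ideal.one_eq_top])
    haveI := (ModuleCat.isZero_of_subsingleton (ModuleCat.of (MvPolynomial (Fin t) R)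
      (MvPolynomial (Fin t) R ⧸ idealOfVars (Fin t) R ^ 0))).hasProjectiveDimensionLT_zero
    exact hasProjectiveDimensionLT_of_ge _ 0 _ (Nat.zero_le _)
  | k + 1 => by
    classical
    let S := MvPolynomial (Fin t) R
    let J := idealOfVars (Fin t) R
    let D := {m : Fin t →₀ ℕ // m.degree = k}
    let rs : List S := List.ofFn fun i : Fin t => (X i : S)
    have hrs : Ideal.ofList rs = J := by
      refine congrArg Ideal.span (Set.ext fun x => ?_)
      simp [rs]
    let G := ModuleCat.of S (D →₀ S)
    have hG : IsWeaklyRegular (D →₀ S) rs :=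
      ((TensorProduct.rid S (D →₀ S)).isWeaklyRegular_congr rs).1
        (Groth.Agent.CMSliceLib.isWeaklyRegular_X R t).isWeaklyRegular_lTensor
    have hX1 := pd_quot rs G 0 hG
      ((projective_iff_hasProjectiveDimensionLE_zero _).1 (ModuleCat.projective_of_free Finsupp.basisSingleOne))
    rw [Nat.zero_add, List.length_ofFn, hrs] at hX1
    let q : (D →₀ S) →ₗ[S] S ⧸ J ^ (k + 1) :=
      (J ^ (k + 1)).mkQ ∘ₗ Finsupp.linearCombination S (fun m : D => monomial m.1 (1 : R))
    have hmon : ∀ m : D, monomial m.1 (1 : R) ∈ J ^ k := fun m =>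
      (mem_pow_idealOfVars_iff' k _).2 fun x hx => by
        rw [coeff_monomial, if_neg (by rintro rfl; omega)]
    have hle : J • (⊤ : Submodule S (D →₀ S)) ≤ LinearMap.ker q := by
      refine Submodule.smul_le.2 fun a ha c _ => ?_
      rw [LinearMap.mem_ker, map_smul]
      obtain ⟨z, hz⟩ : ∃ z ∈ J ^ k, q c = Submodule.Quotient.mk z :=
        ⟨_, by
          rw [Finsupp.linearCombination_apply]
          exact Submodule.sum_mem _ fun m _ => Ideal.mul_mem_left _ _ (hmon m), rfl⟩
      rw [hz.2, ← Submodule.Quotient.mk_smul, Submodule.Quotient.mk_eq_zero, pow_succ']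
      exact Ideal.mul_mem_mul ha hz.1
    have hge : LinearMap.ker q ≤ J • (⊤ : Submodule S (D →₀ S)) := by
      intro c hc
      have hc' : Finsupp.linearCombination S (fun m : D => monomial m.1 (1 : R)) c ∈ J ^ (k + 1) :=
        (Submodule.Quotient.mk_eq_zero _).1 (LinearMap.mem_ker.1 hc)
      have hcoef : ∀ m : D, c m ∈ J := fun m => by
        have h0 := (mem_pow_idealOfVars_iff' (k + 1) _).1 hc' m.1 (by have := m.2; omega)
        rw [← pow_one J, mem_pow_idealOfVars_iff']
        intro x hx
        obtain rfl : x = 0 := by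
          rw [← Finsupp.degree_eq_zero_iff]; omega
        rw [Finsupp.linearCombination_apply, Finsupp.sum, MvPolynomial.coeff_sum] at h0
        rw [Finset.sum_eq_single m] at h0
        · rw [smul_eq_mul, coeff_mul_monomial', if_pos le_rfl, mul_one, tsub_self] at h0
          exact h0
        · intro m' _ hne
          rw [smul_eq_mul, coeff_mul_monomial', if_neg]
          intro hle
          refine hne (Subtype.ext ?_)
          obtain ⟨d, hd⟩ := exists_add_of_le hle
          have h1 := congrArg Finsupp.degree hd
          rw [map_add, m.2, m'.2] at h1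
          obtain rfl : d = 0 := by rw [← Finsupp.degree_eq_zero_iff]; omega
          rw [hd, add_zero]
        · intro hm
          rw [Finsupp.notMem_support_iff.1 hm, zero_smul, coeff_zero]
      rw [← c.sum_single]
      refine Submodule.sum_mem _ fun m _ => ?_
      rw [← mul_one (c m), ← smul_eq_mul, ← Finsupp.smul_single]
      exact Submodule.smul_mem_smul (hcoef m) trivial
    let p : (S ⧸ J ^ (k + 1)) →ₗ[S] S ⧸ J ^ k :=
      Submodule.mapQ (J ^ (k + 1)) (J ^ k) LinearMap.id (Ideal.pow_le_pow_right (Nat.le_succ k))
    let f : ((D →₀ S) ⧸ J • (⊤ : Submodule S (D →₀ S))) →ₗ[S] S ⧸ J ^ (k + 1) := Submodule.liftQ _ q hle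
    have hinj : Function.Injective f := by
      rw [← LinearMap.ker_eq_bot, Submodule.ker_liftQ, eq_bot_iff]
      rintro _ ⟨c, hc, rfl⟩
      exact (Submodule.Quotient.mk_eq_zero _).2 (hge hc)
    have hex : Function.Exact f p := by
      rw [LinearMap.exact_iff, Submodule.range_liftQ]
      refine le_antisymm ?_ ?_
      · intro x hx
        obtain ⟨z, rfl⟩ := Submodule.Quotient.mk_surjective _ x
        have hz : z ∈ J ^ k := (Submodule.Quotient.mk_eq_zero _).1 hx
        rw [LinearMap.range_comp, Finsupp.range_linearCombination]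
        refine Submodule.mem_map_of_mem (f := (J ^ (k + 1)).mkQ) ((?_ : J ^ k ≤ _) hz)
        rw [pow_idealOfVars_eq_span]
        refine Ideal.span_le.2 ?_
        rintro _ ⟨m, hm, rfl⟩
        exact Submodule.subset_span ⟨⟨m, hm⟩, rfl⟩
      · rintro _ ⟨c, rfl⟩
        refine (Submodule.Quotient.mk_eq_zero _).2 ?_
        rw [Finsupp.linearCombination_apply]
        exact Submodule.sum_mem _ fun m _ => Ideal.mul_mem_left _ _ (hmon m)
    have hS : (ShortComplex.mk (ModuleCat.ofHom f) (ModuleCat.ofHom p)
        (ModuleCat.hom_ext hex.linearMap_comp_eq_zero)).ShortExact :=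
      { exact := (ShortComplex.ShortExact.moduleCat_exact_iff_function_exact _).mpr hex
        mono_f := (ModuleCat.mono_iff_injective _).mpr hinj
        epi_g := (ModuleCat.epi_iff_surjective _).mpr fun x => by
          obtain ⟨z, rfl⟩ := Submodule.Quotient.mk_surjective _ x
          exact ⟨Submodule.Quotient.mk z, rfl⟩ }
    exact hS.hasProjectiveDimensionLT_X₂ (t + 1) hX1 (pd_pow_idealOfVars k)

end Groth.Agent.UnivExtLib
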