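import Groth.Agent.UnivExtLib.AR
import Groth.Agent.UnivExtLib.PolyPow
import Groth.Agent.S14413
import Mathlib.Algebra.Category.ModuleCat.ChangeOfRings

/-!
# Uniform vanishing of `Tor` above the number of generators
-/

set_option autoImplicit false
set_option linter.style.haveILetI false
set_option backward.isDefEq.respectTransparency false

universe u

open CategoryTheory Limits TensorProduct MonoidalCategory MvPolynomial
open Groth.Agent.LocCohLib Groth.Agent.TorLib

noncomputable section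

namespace Groth.Agent.UnivExtLib

variable {R : Type u} [CommRing R]

section Build

/-- Lifting through a map along a projective. -/
theorem exists_lift {P W X : ModuleCat.{u} R} [Projective P] (u : P ⟶ X) (f : W ⟶ X)
    (h : ∀ q, ∃ w, f.hom w = u.hom q) : ∃ v : P ⟶ W, v ≫ f = u := by
  haveI : Module.Projective R P := (IsProjective.iff_projective _).mpr inferInstance
  let u' : P →ₗ[R] LinearMap.range f.hom := u.hom.codRestrict _ fun q => by
    obtain ⟨w, hw⟩ := h q
    exact ⟨w, hw⟩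
  obtain ⟨v, hv⟩ := Module.projective_lifting_property f.hom.rangeRestrict u' f.hom.surjective_rangeRestrict
  exact ⟨ModuleCat.ofHom v, ModuleCat.hom_ext (LinearMap.ext fun q => congrArg Subtype.val (LinearMap.congr_fun hv q))⟩

variable (L : ChainComplex (ModuleCat.{u} R) ℕ) (hL : ∀ j, Projective (L.X j))
  (C : ℕ → ChainComplex (ModuleCat.{u} R) ℕ) (Y : ℕ → ModuleCat.{u} R) (ε : ∀ s, (C s).X 0 ⟶ Y s)
  (g : ∀ {k n : ℕ}, k ≤ n → (C n ⟶ C k)) (π : ∀ {k n : ℕ}, k ≤ n → (Y n ⟶ Y k)) (c : ℕ)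

include hL in
/-- A complex with projective terms maps, after shifts of the index, compatibly up to degree `i`. -/
theorem exists_partial (hg : ∀ {k n : ℕ} (h : k ≤ n), (g h).f 0 ≫ ε k = ε n ≫ π h)
    (hπ : ∀ {k m n : ℕ} (h : k ≤ m) (h' : m ≤ n), π h' ≫ π h = π (h.trans h'))
    (hsurj : ∀ s, Function.Surjective (ε s).hom)
    (hker : ∀ s (z : (C s).X 0), (ε s).hom z = 0 → ∃ w, ((C s).d 1 0).hom w = z)
    (hkill : ∀ (k n : ℕ) (h : k ≤ n), k + c ≤ n → ∀ j (z : (C n).X (j + 1)), ((C n).d (j + 1) j).hom z = 0 →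
      ∃ w, ((C k).d (j + 1 + 1) (j + 1)).hom w = ((g h).f (j + 1)).hom z) :
    ∀ (i k n : ℕ) (h : k ≤ n), k + i * c ≤ n → ∀ α : L.X 0 ⟶ Y n, L.d 1 0 ≫ α = 0 →
      ∃ a : ∀ j, L.X j ⟶ (C k).X j, a 0 ≫ ε k = α ≫ π h ∧
        ∀ j, j ≤ i → L.d (j + 1) j ≫ a j = a (j + 1) ≫ (C k).d (j + 1) j := by
  intro i
  induction i with
  | zero =>
    intro k n h _ α hα
    obtain ⟨a0, ha0⟩ := exists_lift (P := L.X 0) α (ε n) fun q => hsurj n _
    obtain ⟨a1, ha1⟩ := exists_lift (P := L.X 1) (L.d 1 0 ≫ a0) ((C n).d 1 0) fun q =>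
      hker n _ (congr($(show (L.d 1 0 ≫ a0) ≫ ε n = 0 by rw [Category.assoc, ha0, hα]).hom q))
    refine ⟨fun j => match j with
      | 0 => a0 ≫ (g h).f 0
      | 1 => a1 ≫ (g h).f 1
      | _ + 2 => 0, ?_, fun j hj => ?_⟩
    · show (a0 ≫ (g h).f 0) ≫ ε k = α ≫ π h
      rw [Category.assoc, hg, ← Category.assoc, ha0]
    · obtain rfl : j = 0 := Nat.le_zero.1 hj
      show L.d 1 0 ≫ a0 ≫ (g h).f 0 = (a1 ≫ (g h).f 1) ≫ (C k).d 1 0
      rw [← Category.assoc, ← ha1, Category.assoc, Category.assoc, (g h).comm]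
  | succ i ih =>
    intro k n h hn α hα
    rw [Nat.succ_mul] at hn
    obtain ⟨a, ha, hcomm⟩ := ih (k + c) n (by omega) (by omega) α hα
    have hcyc : (L.d (i + 1 + 1) (i + 1) ≫ a (i + 1)) ≫ (C (k + c)).d (i + 1) i = 0 := by
      rw [Category.assoc, ← hcomm i le_rfl, L.d_comp_d_assoc, zero_comp]
    obtain ⟨v, hv⟩ := exists_lift (P := L.X (i + 1 + 1))
      (L.d (i + 1 + 1) (i + 1) ≫ a (i + 1) ≫ (g (Nat.le_add_right k c)).f (i + 1)) ((C k).d (i + 1 + 1) (i + 1)) fun q =>
        hkill k (k + c) _ le_rfl i _ (congr($(hcyc).hom q))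
    let a' : ∀ j, L.X j ⟶ (C k).X j := Function.update (fun j => a j ≫ (g (Nat.le_add_right k c)).f j) (i + 1 + 1) v
    have ha' : ∀ j, j ≠ i + 1 + 1 → a' j = a j ≫ (g (Nat.le_add_right k c)).f j := fun j hj =>
      Function.update_of_ne hj _ _
    refine ⟨a', ?_, fun j hj => ?_⟩
    · rw [ha' 0 (by omega), Category.assoc, hg, ← Category.assoc, ha, Category.assoc, hπ]
    · rcases Nat.lt_or_eq_of_le hj with hj | rfl
      · rw [ha' j (by omega), ha' (j + 1) (by omega), ← Category.assoc, hcomm j (by omega), Category.assoc,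
          Category.assoc, (g _).comm]
      · rw [ha' (i + 1) (by omega), show a' (i + 1 + 1) = v from Function.update_self _ _ _, hv]

end Build

section Main

variable {P : Type u} [CommRing P] (σ : P →+* R) (J : Ideal P) (Q : ∀ n, ProjectiveResolution (quotP J n))

/-- The base change of the resolution of `P / J ^ n`. -/
def bcCx (n : ℕ) : ChainComplex (ModuleCat.{u} R) ℕ :=
  ((ModuleCat.extendScalars σ).mapHomologicalComplex _).obj (Q n).complex

/-- The map between the base changes. -/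
def bcMap {k n : ℕ} (h : k ≤ n) : bcCx σ J Q n ⟶ bcCx σ J Q k :=
  ((ModuleCat.extendScalars σ).mapHomologicalComplex _).map (ProjectiveResolution.lift (projP J h) (Q n) (Q k))

theorem projective_bcCx (n j : ℕ) : Projective ((bcCx σ J Q n).X j) := by
  haveI : (ModuleCat.restrictScalars σ).PreservesEpimorphisms :=
    ⟨fun f hf => (ModuleCat.epi_iff_surjective _).2 ((ModuleCat.epi_iff_surjective f).1 hf :)⟩
  exact (ModuleCat.extendRestrictScalarsAdj σ).map_projective _ ((Q n).projective j)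

theorem isZero_bcCx (n j : ℕ) (h : IsZero ((Q n).complex.X j)) : IsZero ((bcCx σ J Q n).X j) :=
  (ModuleCat.extendScalars σ).map_isZero h

/-- `R` as a module over `P`. -/
abbrev sclR : ModuleCat.{u} P := (ModuleCat.restrictScalars σ).obj (ModuleCat.of R R)

theorem extend_map_apply {W W' : ModuleCat.{u} P} (f : W ⟶ W') (z : sclR σ ⊗[P] W) :
    ((ModuleCat.extendScalars σ).map f).hom z = f.hom.lTensor (sclR σ) z := by
  induction z with
  | zero => exact (map_zero _).trans (map_zero _).symm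
  | tmul r w => rfl
  | add x y hx hy => exact (map_add _ x y).trans ((congrArg₂ (· + ·) hx hy).trans (map_add _ x y).symm)

variable (I : Ideal R) (hσ : Function.Surjective σ)

include hσ in
theorem bc_kill [IsNoetherianRing P] (t : ℕ) (hQ : ∀ n i, t < i → IsZero ((Q n).complex.X i)) :
    ∃ c, ∀ (k n : ℕ) (h : k ≤ n), k + c ≤ n → ∀ j (z : (bcCx σ J Q n).X (j + 1)),
    ((bcCx σ J Q n).d (j + 1) j).hom z = 0 →
      ∃ w, ((bcCx σ J Q k).d (j + 1 + 1) (j + 1)).hom w = ((bcMap σ J Q h).f (j + 1)).hom z := by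
  classical
  haveI : Module.Finite P (sclR σ) := by
    refine Module.Finite.of_surjective
      ({ toFun := fun p => (σ p : R), map_add' := map_add σ, map_smul' := fun a p => map_mul σ a p } :
        P →ₗ[P] sclR σ) hσ
  choose c hc using fun j => exists_qMap_eq_zero J Q j (sclR σ) inferInstance
  refine ⟨(Finset.range t).sup c, fun k n h hkn j z hz => ?_⟩
  by_cases hj : j < t
  · have h0 := hc j k n h (by have := Finset.le_sup (f := c) (Finset.mem_range.2 hj); omega)
    let z' : Zmod (cx (Q n) (sclR σ)) (j + 1) := ⟨z, by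
      rw [LinearMap.mem_ker, ChainComplex.next_nat_succ j]
      exact (extend_map_apply σ _ z).symm.trans hz⟩
    have h1 := (homologyMap_cls (j + 1) _ z').symm.trans (congr($(h0).hom (cls (cx (Q n) (sclR σ)) (j + 1) z')))
    obtain ⟨w, hw⟩ := (cls_eq_zero_iff' (cx (Q k) (sclR σ)) (ChainComplex.prev _ _) _).1 h1
    exact ⟨w, (extend_map_apply σ _ w).trans (hw.trans (extend_map_apply σ _ z).symm)⟩
  · refine ⟨0, ?_⟩
    haveI := ModuleCat.subsingleton_of_isZero (isZero_bcCx σ J Q k (j + 1) (hQ k _ (by omega)))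
    exact Subsingleton.elim _ _

/-- The augmentation of the base change. -/
def bcAug (hle : J.map σ ≤ I) (n : ℕ) : (bcCx σ J Q n).X 0 ⟶ ModuleCat.of R (R ⧸ I ^ n) :=
  ((ModuleCat.extendRestrictScalarsAdj σ).homEquiv _ _).symm
    ((Q n).π.f 0 ≫ ModuleCat.ofHom (Y := (ModuleCat.restrictScalars σ).obj (ModuleCat.of R (R ⧸ I ^ n)))
      { toFun := Ideal.quotientMap (I ^ n) σ (Ideal.map_le_iff_le_comap.1 ((Ideal.map_pow σ J n).trans_le (Ideal.pow_right_mono hle n)))
        map_add' := map_add _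
        map_smul' := fun p x => by
          obtain ⟨x, rfl⟩ := Ideal.Quotient.mk_surjective x
          show Ideal.Quotient.mk (I ^ n) (σ (p * x)) = Ideal.Quotient.mk (I ^ n) (σ p * σ x)
          rw [map_mul] })

variable {I} (hle : J.map σ ≤ I)

/-- An element of `R` in the module `sclR σ`. -/
abbrev toScl (r : R) : sclR σ := r


theorem bcAug_tmul (n : ℕ) (r : R) (q : (Q n).complex.X 0) (x : P)
    (hx : ((Q n).π.f 0).hom q = Ideal.Quotient.mk (J ^ n) x) :
    (bcAug σ J Q I hle n).hom (toScl σ r ⊗ₜ[P] q) = Ideal.Quotient.mk (I ^ n) (r * σ x) := by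
  show r • (Ideal.quotientMap (I ^ n) σ (Ideal.map_le_iff_le_comap.1 ((Ideal.map_pow σ J n).trans_le (Ideal.pow_right_mono hle n))) (((Q n).π.f 0).hom q)) = _
  rw [hx]
  rfl

theorem bcMap_aug {k n : ℕ} (h : k ≤ n) :
    (bcMap σ J Q h).f 0 ≫ bcAug σ J Q I hle k = bcAug σ J Q I hle n ≫
      ModuleCat.ofHom (Submodule.mapQ (I ^ n) (I ^ k) LinearMap.id (Ideal.pow_le_pow_right h)) := by
  refine ModuleCat.hom_ext (LinearMap.ext ?_)
  show ∀ z : sclR σ ⊗[P] (Q n).complex.X 0, _
  intro z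
  induction z with
  | zero => rw [map_zero, map_zero]
  | add x y hx hy => rw [map_add, map_add, hx, hy]
  | tmul r q =>
    obtain ⟨x, hx⟩ := Ideal.Quotient.mk_surjective (((Q n).π.f 0).hom q)
    rw [ModuleCat.hom_comp, ModuleCat.hom_comp, LinearMap.comp_apply, LinearMap.comp_apply,
      bcAug_tmul σ J Q hle n r q x hx.symm]
    refine (bcAug_tmul σ J Q hle k r _ x ?_).trans rfl
    refine (congr($(ProjectiveResolution.lift_commutes_zero (projP J h) (Q n) (Q k)).hom q)).trans ?_
    show Submodule.mapQ (J ^ n) (J ^ k) LinearMap.id (Ideal.pow_le_pow_right h) (((Q n).π.f 0).hom q) = _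
    rw [← hx]
    rfl

theorem bcAug_surjective (n : ℕ) : Function.Surjective (bcAug σ J Q I hle n).hom := fun y => by
  obtain ⟨r, rfl⟩ := Ideal.Quotient.mk_surjective y
  obtain ⟨q, hq⟩ := (ModuleCat.epi_iff_surjective ((Q n).π.f 0)).1 inferInstance (Ideal.Quotient.mk (J ^ n) 1)
  exact ⟨toScl σ r ⊗ₜ[P] q, by rw [bcAug_tmul σ J Q hle n r q 1 hq, map_one, mul_one]⟩

include hσ in
theorem bcAug_exact (heq : J.map σ = I) (n : ℕ) (z : (bcCx σ J Q n).X 0)
    (hz : (bcAug σ J Q I hle n).hom z = 0) : ∃ w, ((bcCx σ J Q n).d 1 0).hom w = z := by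
  let π0 : (Q n).complex.X 0 →ₗ[P] P ⧸ J ^ n := ((Q n).π.f 0).hom
  have hπ : Function.Surjective π0 := (ModuleCat.epi_iff_surjective ((Q n).π.f 0)).1 inferInstance
  have hex : Function.Exact ((Q n).complex.d 1 0).hom π0 :=
    (ShortComplex.ShortExact.moduleCat_exact_iff_function_exact _).1 (Q n).exact₀
  obtain ⟨w, hw⟩ := (lTensor_exact (sclR σ) hex hπ z).1 (by
    have key : ∀ y : sclR σ ⊗[P] (Q n).complex.X 0, ∃ r : R, π0.lTensor (sclR σ) y = toScl σ r ⊗ₜ Ideal.Quotient.mk (J ^ n) 1 ∧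
        (bcAug σ J Q I hle n).hom y = Ideal.Quotient.mk (I ^ n) r := fun y => by
      induction y with
      | zero => exact ⟨0, by rw [map_zero]; exact (TensorProduct.zero_tmul _ _).symm, by rw [map_zero]; exact (map_zero _).symm⟩
      | add x y hx hy =>
        obtain ⟨r, h1, h2⟩ := hx
        obtain ⟨r', h1', h2'⟩ := hy
        exact ⟨r + r', by rw [map_add, h1, h1']; exact (TensorProduct.add_tmul _ _ _).symm,
          (map_add (bcAug σ J Q I hle n).hom x y).trans ((congrArg₂ (fun a b => a + b) h2 h2').trans (map_add _ _ _).symm)⟩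
      | tmul r q =>
        obtain ⟨x, hx⟩ := Ideal.Quotient.mk_surjective (π0 q)
        refine ⟨HMul.hMul (α := R) (β := R) (γ := R) r (σ x), ?_, bcAug_tmul σ J Q hle n r q x hx.symm⟩
        rw [LinearMap.lTensor_tmul, ← hx, show Ideal.Quotient.mk (J ^ n) x = x • Ideal.Quotient.mk (J ^ n) 1 by
          rw [Algebra.smul_def, map_one, mul_one]; rfl, tmul_smul, smul_tmul']
        congr 1
        exact mul_comm (σ x) r
    obtain ⟨r, h1, h2⟩ := key z
    rw [h1]
    have hr : r ∈ (J ^ n).map σ := by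
      rw [Ideal.map_pow, heq]
      exact Ideal.Quotient.eq_zero_iff_mem.1 (h2.symm.trans hz)
    obtain ⟨p, hp, rfl⟩ := (Ideal.mem_map_iff_of_surjective σ hσ).1 hr
    rw [show toScl σ (σ p) = p • toScl σ 1 from (mul_one (σ p)).symm, smul_tmul,
      show p • Ideal.Quotient.mk (J ^ n) 1 = 0 by
        rw [Algebra.smul_def, map_one, mul_one]; exact Ideal.Quotient.eq_zero_iff_mem.2 hp, tmul_zero])
  exact ⟨w, (extend_map_apply σ _ w).trans hw⟩

end Main

end Groth.Agent.UnivExtLib

namespace Groth.Agent.UnivExtLib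

variable {R : Type u} [CommRing R] [IsNoetherianRing R]

/-- Above the number of generators the transition maps on `Tor` vanish after a linear shift. -/
theorem exists_shift_tor_map_eq_zero (I : Ideal R) (s : Finset R) (hs : I = Ideal.span (s : Set R)) :
    ∃ c : ℕ, ∀ (k n : ℕ) (h : k ≤ n), k + c ≤ n → ∀ (M : ModuleCat.{u} R) (i : ℕ), s.card < i →
      ((Tor (ModuleCat.{u} R) i).obj M).map (projP I h) = 0 := by
  let f : Fin s.card → R := fun i => (s.equivFin.symm i).1
  let σ : MvPolynomial (Fin s.card) R →+* R := MvPolynomial.eval₂Hom (RingHom.id R) f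
  let J := idealOfVars (Fin s.card) R
  have hσ : Function.Surjective σ := fun r => ⟨MvPolynomial.C r, MvPolynomial.eval₂Hom_C _ _ _⟩
  have heq : J.map σ = I := by
    rw [hs, Ideal.map_span]
    congr 1
    ext x
    constructor
    · rintro ⟨_, ⟨i, rfl⟩, rfl⟩
      exact (MvPolynomial.eval₂Hom_X' (RingHom.id R) f i).symm ▸ (s.equivFin.symm i).2
    · intro hx
      refine ⟨MvPolynomial.X (s.equivFin ⟨x, hx⟩), ⟨_, rfl⟩, (MvPolynomial.eval₂Hom_X' (RingHom.id R) f _).trans ?_⟩
      exact congrArg Subtype.val (s.equivFin.symm_apply_apply ⟨x, hx⟩)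
  choose Q hQ using fun n => (Groth.Agent.S14413.result _ (quotP J n) s.card).1 (pd_pow_idealOfVars R s.card n)
  obtain ⟨c, hc⟩ := bc_kill σ J Q hσ s.card hQ
  refine ⟨s.card * c, fun k n h hkn M i hi => ?_⟩
  let L := projectiveResolution (quotP I n)
  let L' := projectiveResolution (quotP I k)
  obtain ⟨a, ha, hcomm⟩ := exists_partial L.complex L.projective (bcCx σ J Q) (quotP I) (bcAug σ J Q I heq.le)
    (bcMap σ J Q) (fun {k n} h => projP I h) c (fun h => bcMap_aug σ J Q heq.le h)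
    (fun h h' => ModuleCat.hom_ext (LinearMap.ext fun x => by
      obtain ⟨x, rfl⟩ := Submodule.Quotient.mk_surjective _ x
      rfl))
    (bcAug_surjective σ J Q heq.le) (bcAug_exact σ J Q hσ heq.le heq) hc s.card k n h hkn (L.π.f 0) L.complex_d_comp_π_f_zero
  have hzC : ∀ j, s.card < j → IsZero ((bcCx σ J Q k).X j) := fun j hj => isZero_bcCx σ J Q k j (hQ k j hj)
  let φ : L.complex ⟶ bcCx σ J Q k :=
    { f := a
      comm' := fun p q hpq => by
        obtain rfl : q + 1 = p := hpq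
        rcases Nat.lt_or_ge s.card q with hq | hq
        · exact (hzC q hq).eq_of_tgt _ _
        · exact (hcomm q hq).symm }
  have hproj : ∀ j, Projective ((bcCx σ J Q k).X j) := projective_bcCx σ J Q k
  obtain ⟨b, hb, hcomm'⟩ := exists_partial (bcCx σ J Q k) hproj (fun _ => L'.complex) (fun _ => quotP I k) (fun _ => L'.π.f 0)
    (fun _ => 𝟙 _) (fun _ => 𝟙 _) 0 (fun _ => by
      simp only [HomologicalComplex.id_f, Category.id_comp]; exact (Category.comp_id _).symm)
    (fun _ _ => Category.id_comp _)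
    (fun _ => (ModuleCat.epi_iff_surjective (L'.π.f 0)).1 inferInstance)
    (fun _ z hz => ((ShortComplex.ShortExact.moduleCat_exact_iff_function_exact _).1 L'.exact₀ z).1 hz)
    (fun _ _ _ _ j z hz => by
      obtain ⟨w, hw⟩ := ((ShortComplex.ShortExact.moduleCat_exact_iff_function_exact _).1 (L'.exact_succ j) z).1 hz
      exact ⟨w, hw⟩)
    s.card 0 0 le_rfl (by omega) (bcAug σ J Q I heq.le k) (by
      show (ModuleCat.extendScalars σ).map ((Q k).complex.d 1 0) ≫ _ = 0
      rw [bcAug, ← Adjunction.homEquiv_naturality_left_symm, ← Category.assoc, (Q k).complex_d_comp_π_f_zero,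
        zero_comp, Adjunction.homEquiv_counit, Functor.map_zero, zero_comp])
  let ψ : bcCx σ J Q k ⟶ L'.complex :=
    { f := b
      comm' := fun p q hpq => by
        obtain rfl : q + 1 = p := hpq
        rcases Nat.lt_or_ge s.card q with hq | hq
        · exact (hzC (q + 1) (by omega)).eq_of_src _ _
        · exact (hcomm' q hq).symm }
  have comm : (φ ≫ ψ).f 0 ≫ L'.π.f 0 = L.π.f 0 ≫ projP I h := by
    show (a 0 ≫ b 0) ≫ _ = _
    rw [Category.assoc, hb]
    exact (congrArg (a 0 ≫ ·) (Category.comp_id _)).trans ha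
  have hn := torIso_nat_left (P := L) (Q := L') M (projP I h) (φ ≫ ψ) comm i
  have h0 : HomologicalComplex.homologyMap (cxLeft L L' M (φ ≫ ψ)) i = 0 := by
    refine ModuleCat.hom_ext (LinearMap.ext fun x => ?_)
    obtain ⟨z, rfl⟩ := cls_surjective (cx L M) i x
    rw [homologyMap_cls]
    refine (congrArg (cls (cx L' M) i) (Subtype.ext ?_)).trans (map_zero _)
    show (((tensorLeft M).map ((φ ≫ ψ).f i)).hom z.1) = 0
    rw [show (φ ≫ ψ).f i = 0 by rw [HomologicalComplex.comp_f, (hzC i hi).eq_of_tgt (φ.f i) 0, zero_comp],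
      Functor.map_zero]
    rfl
  rw [h0, comp_zero] at hn
  rw [← cancel_mono (torIso L' M i).hom, zero_comp]
  exact hn

end Groth.Agent.UnivExtLib
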