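import Groth.Agent.LocCohLib.ExtComp
import Groth.Agent.TorLib.Balance
import Mathlib.Algebra.Module.Injective
import Mathlib.RingTheory.TensorProduct.Finite

/-!
# `Tor` against an injective module is dual to `Ext`
-/

set_option autoImplicit false
set_option linter.style.haveILetI false
set_option backward.isDefEq.respectTransparency false

universe u

open CategoryTheory Limits TensorProduct MonoidalCategory
open Groth.Agent.LocCohLib Groth.Agent.TorLib

noncomputable section

namespace Groth.Agent.UnivExtLib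

variable {A : Type u} [CommRing A] (E : Type u) [AddCommGroup E] [Module A E]

/-- `e ⊗ p ↦ (φ ↦ φ p • e)`. -/
def evPair (W : ModuleCat.{u} A) : E ⊗[A] W →ₗ[A] ((W ⟶ ModuleCat.of A A) →ₗ[A] E) :=
  TensorProduct.lift (LinearMap.mk₂ A (fun e p =>
    { toFun := fun φ => φ.hom p • e
      map_add' := fun φ ψ => by simp [add_smul]
      map_smul' := fun r φ => by simp [mul_smul] })
    (fun e e' p => LinearMap.ext fun φ => smul_add _ e e')
    (fun r e p => LinearMap.ext fun φ => smul_comm _ r e)
    (fun e p p' => LinearMap.ext fun φ => by show φ.hom (p + p') • e = φ.hom p • e + φ.hom p' • e; rw [map_add, add_smul])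
    (fun r e p => LinearMap.ext fun φ => by show φ.hom (r • p) • e = r • φ.hom p • e; rw [map_smul, smul_eq_mul, mul_smul]))

theorem evPair_tmul (W : ModuleCat.{u} A) (e : E) (p : W) (φ : W ⟶ ModuleCat.of A A) :
    evPair E W (e ⊗ₜ p) φ = φ.hom p • e := rfl

theorem evPair_bijective (W : ModuleCat.{u} A) [Module.Finite A W] [Module.Free A W] :
    Function.Bijective (evPair E W) := by
  classical
  let b := Module.Free.chooseBasis A W
  let c : Module.Free.ChooseBasisIndex A W → (W ⟶ ModuleCat.of A A) := fun i => ModuleCat.ofHom (b.coord i)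
  let inv : ((W ⟶ ModuleCat.of A A) →ₗ[A] E) →ₗ[A] E ⊗[A] W :=
    ∑ i, ((TensorProduct.mk A E W).flip (b i)) ∘ₗ LinearMap.applyₗ (c i)
  refine Function.bijective_iff_has_inverse.2 ⟨inv, fun z => ?_, fun h => LinearMap.ext fun φ => ?_⟩
  · induction z with
    | zero => simp
    | add x y hx hy => rw [map_add, map_add, hx, hy]
    | tmul e p =>
      simp only [inv, LinearMap.sum_apply, LinearMap.comp_apply, LinearMap.applyₗ_apply_apply, evPair_tmul,
        LinearMap.flip_apply, TensorProduct.mk_apply, smul_tmul, c, ModuleCat.hom_ofHom, ← tmul_sum]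
      congr 1
      exact b.sum_repr p
  · simp only [inv, LinearMap.sum_apply, LinearMap.comp_apply, LinearMap.applyₗ_apply_apply, map_sum,
      LinearMap.flip_apply, TensorProduct.mk_apply, evPair_tmul]
    simp only [← map_smul, ← map_sum]
    congr 1
    refine ModuleCat.hom_ext (b.ext fun j => ?_)
    simp [c, ModuleCat.hom_sum, LinearMap.sum_apply, Finsupp.single_apply]

theorem evPair_lTensor {W W' : ModuleCat.{u} A} (f : W ⟶ W') (z : E ⊗[A] W) (φ : W' ⟶ ModuleCat.of A A) :
    evPair E W' (f.hom.lTensor E z) φ = evPair E W z (f ≫ φ) := by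
  induction z with
  | zero => simp
  | tmul e p => rfl
  | add x y hx hy => simp only [map_add, LinearMap.add_apply, hx, hy]

variable [Module.Injective A E] {X : ModuleCat.{u} A} (P : ProjectiveResolution X)
  [∀ n, Module.Finite A (P.complex.X n)] [∀ n, Module.Free A (P.complex.X n)]

/-- The homology of `E ⊗ P` is the dual of `Ext`. -/
theorem nonempty_homology_equiv (i : ℕ) :
    Nonempty ((cx P (ModuleCat.of A E)).homology i ≃ₗ[A]
      (Abelian.Ext.{u} X (ModuleCat.of A A) i →ₗ[A] E)) := by
  let K := cx P (ModuleCat.of A E)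
  let Y := ModuleCat.of A A
  let nm := newMk P Y i
  have hzero : ∀ z : Zmod K i, ∀ φ : cocy P Y i, nm φ = 0 → evPair E (P.complex.X i) z.1 φ.1 = 0 := by
    intro z φ hφ
    rcases i with _ | p
    · rw [show φ = 0 from newMk_zero_injective P Y (hφ.trans (map_zero nm).symm), ZeroMemClass.coe_zero, map_zero]
    · obtain ⟨g, hg⟩ := (newMk_eq_zero_iff P Y p φ).1 hφ
      have hz : (P.complex.d (p + 1) p).hom.lTensor E z.1 = 0 := by
        have h := LinearMap.mem_ker.1 z.2
        rw [ChainComplex.next_nat_succ p] at h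
        exact h
      rw [← hg, ← evPair_lTensor E (P.complex.d (p + 1) p) z.1 g, hz, map_zero, LinearMap.zero_apply]
  let Φ0 : Zmod K i →ₗ[A] (cocy P Y i →ₗ[A] E) :=
    (LinearMap.lcomp A E (cocy P Y i).subtype) ∘ₗ evPair E (P.complex.X i) ∘ₗ (Zmod K i).subtype
  have hker : ∀ z, LinearMap.ker nm ≤ LinearMap.ker (Φ0 z) := fun z φ hφ => hzero z φ hφ
  let q := nm.quotKerEquivOfSurjective (newMk_surjective P Y i)
  let Φ : Zmod K i →ₗ[A] (Abelian.Ext.{u} X Y i →ₗ[A] E) :=
    { toFun := fun z => (LinearMap.ker nm).liftQ (Φ0 z) (hker z) ∘ₗ q.symm.toLinearMap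
      map_add' := fun z z' => LinearMap.ext fun e => by
        obtain ⟨φ, rfl⟩ := newMk_surjective P Y i e
        simp [q, nm, LinearMap.add_apply]
      map_smul' := fun r z => LinearMap.ext fun e => by
        obtain ⟨φ, rfl⟩ := newMk_surjective P Y i e
        simp [q, nm, LinearMap.smul_apply] }
  have hΦ : ∀ (z : Zmod K i) (φ : cocy P Y i), Φ z (nm φ) = evPair E (P.complex.X i) z.1 φ.1 := fun z φ => by
    show (LinearMap.ker nm).liftQ (Φ0 z) (hker z) (q.symm (nm φ)) = _
    rw [show q.symm (nm φ) = Submodule.Quotient.mk φ from (LinearEquiv.symm_apply_eq q).2 rfl]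
    rfl
  have hsurj : Function.Surjective Φ := fun f => by
    obtain ⟨g, hg⟩ := Module.Baer.extension_property (Module.Baer.iff_injective.2 ‹_›)
      (cocy P Y i).subtype Subtype.val_injective (f ∘ₗ nm)
    obtain ⟨z, hz⟩ := (evPair_bijective E (P.complex.X i)).2 g
    have hzc : z ∈ Zmod K i := by
      rw [LinearMap.mem_ker]
      rcases i with _ | p
      · rw [(K.shape 0 _ (by simp : ¬(ComplexShape.down ℕ).Rel 0 ((ComplexShape.down ℕ).next 0)))]
        rfl
      · rw [ChainComplex.next_nat_succ p]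
        refine (evPair_bijective E (P.complex.X p)).1 (LinearMap.ext fun ψ => ?_)
        refine (evPair_lTensor E (P.complex.d (p + 1) p) z ψ).trans ?_
        have hmem : P.complex.d (p + 1) p ≫ ψ ∈ cocy P Y (p + 1) := by
          rw [mem_cocy, ← Category.assoc, P.complex.d_comp_d, zero_comp]
        rw [hz, map_zero, LinearMap.zero_apply]
        refine (LinearMap.congr_fun hg ⟨_, hmem⟩).trans ?_
        show f (newMk P Y (p + 1) ⟨_, hmem⟩) = 0
        rw [(newMk_eq_zero_iff P Y p _).2 ⟨ψ, rfl⟩, map_zero]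
    refine ⟨⟨z, hzc⟩, LinearMap.ext fun e => ?_⟩
    obtain ⟨φ, rfl⟩ := newMk_surjective P Y i e
    refine (hΦ ⟨z, hzc⟩ φ).trans ?_
    show evPair E (P.complex.X i) z φ.1 = _
    rw [hz]
    exact LinearMap.congr_fun hg φ
  have hkerΦ : LinearMap.ker Φ = LinearMap.ker (cls K i) := by
    ext z
    rw [LinearMap.mem_ker, LinearMap.mem_ker, cls_eq_zero_iff' K (ChainComplex.prev _ i)]
    constructor
    · intro h
      let dd : (P.complex.X i ⟶ Y) →ₗ[A] (P.complex.X (i + 1) ⟶ Y) := Linear.leftComp A Y (P.complex.d (i + 1) i)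
      have hle : LinearMap.ker dd ≤ LinearMap.ker (evPair E (P.complex.X i) z.1) := fun φ hφ => LinearMap.mem_ker.2 (by
        have h1 := LinearMap.congr_fun h (nm ⟨φ, hφ⟩)
        rw [hΦ] at h1
        exact h1)
      obtain ⟨g, hg⟩ := Module.Baer.extension_property (Module.Baer.iff_injective.2 ‹_›)
        (LinearMap.range dd).subtype Subtype.val_injective
        ((LinearMap.ker dd).liftQ _ hle ∘ₗ dd.quotKerEquivRange.symm.toLinearMap)
      obtain ⟨w, hw⟩ := (evPair_bijective E (P.complex.X (i + 1))).2 g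
      refine ⟨w, (evPair_bijective E (P.complex.X i)).1 (LinearMap.ext fun φ => ?_)⟩
      refine (evPair_lTensor E (P.complex.d (i + 1) i) w φ).trans ?_
      rw [hw]
      refine (LinearMap.congr_fun hg ⟨dd φ, φ, rfl⟩).trans ?_
      show (LinearMap.ker dd).liftQ _ hle (dd.quotKerEquivRange.symm ⟨dd φ, _⟩) = _
      rw [LinearMap.quotKerEquivRange_symm_apply_image]
      rfl
    · rintro ⟨w, hw⟩
      refine LinearMap.ext fun e => ?_
      obtain ⟨φ, rfl⟩ := newMk_surjective P Y i e
      rw [hΦ, ← hw]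
      refine (evPair_lTensor E (P.complex.d (i + 1) i) w φ.1).trans ?_
      rw [mem_cocy.1 φ.2, map_zero]
      rfl
  exact ⟨((cls K i).quotKerEquivOfSurjective (cls_surjective K i)).symm.trans
    ((Submodule.quotEquivOfEq _ _ hkerΦ.symm).trans (Φ.quotKerEquivOfSurjective hsurj))⟩

end Groth.Agent.UnivExtLib
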