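import Mathlib
import Groth.Agent.LocCohLib.Colim

/-!
# A universal class for `Ext` in a fixed degree
-/

set_option autoImplicit false
set_option linter.style.haveILetI false
set_option backward.isDefEq.respectTransparency false

universe u

open CategoryTheory Limits

noncomputable section

namespace Groth.Agent.UnivExtLib

variable {R : Type u} [CommRing R]

/-- Every class of degree `j + r` factors through one class of degree `j`. -/
theorem exists_universal (X : ModuleCat.{u} R) (j : ℕ) :
    ∃ (K : ModuleCat.{u} R) (u : Abelian.Ext.{u} X K j),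
      ∀ (N : ModuleCat.{u} R) (r m : ℕ) (h : j + r = m) (x : Abelian.Ext.{u} X N m),
        ∃ y : Abelian.Ext.{u} K N r, u.comp y h = x := by
  induction j with
  | zero =>
    refine ⟨X, Abelian.Ext.mk₀ (𝟙 X), fun N r m h x => ?_⟩
    obtain rfl : r = m := by omega
    exact ⟨x, Abelian.Ext.mk₀_id_comp x⟩
  | succ j ih =>
    obtain ⟨K, u, hu⟩ := ih
    let S : ShortComplex (ModuleCat.{u} R) :=
      ShortComplex.mk (kernel.ι (Projective.π K)) (Projective.π K) (kernel.condition _)
    have hS : S.ShortExact :=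
      { exact := ShortComplex.exact_of_f_is_kernel _ (kernelIsKernel (Projective.π K)) }
    refine ⟨kernel (Projective.π K), u.comp hS.extClass rfl, fun N r m h x => ?_⟩
    obtain ⟨y, hy⟩ := hu N (1 + r) m (by omega) x
    haveI : Projective S.X₂ := inferInstanceAs (Projective (Projective.over K))
    have hzero : ∀ z : Abelian.Ext.{u} S.X₂ N (1 + r), z = 0 := by
      rw [show 1 + r = r + 1 by omega]
      exact fun z => Abelian.Ext.eq_zero_of_projective z
    obtain ⟨z, hz⟩ := Abelian.Ext.contravariant_sequence_exact₃ hS N y (hzero _) rfl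
    refine ⟨z, ?_⟩
    rw [← hy, ← hz]
    exact Abelian.Ext.comp_assoc u hS.extClass z rfl rfl (by omega)

/-- A map killing the universal class kills all classes of higher degree. -/
theorem exists_killer {X' X : ModuleCat.{u} R} (f : X' ⟶ X) (j : ℕ) :
    ∃ (K : ModuleCat.{u} R) (u : Abelian.Ext.{u} X K j),
      ((Abelian.Ext.mk₀ f).comp u (zero_add j) = 0 → ∀ (N : ModuleCat.{u} R) (m : ℕ), j ≤ m →
        ∀ x : Abelian.Ext.{u} X N m, (Abelian.Ext.mk₀ f).comp x (zero_add m) = 0) := by
  obtain ⟨K, u, hu⟩ := exists_universal X j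
  refine ⟨K, u, fun h0 N m hm x => ?_⟩
  obtain ⟨y, rfl⟩ := hu N (m - j) m (by omega) x
  rw [← Abelian.Ext.comp_assoc (Abelian.Ext.mk₀ f) u y (zero_add j) (by omega) (by omega), h0,
    Abelian.Ext.zero_comp]

end Groth.Agent.UnivExtLib

namespace Groth.Agent.LocCohLib

variable {R : Type u} [CommRing R] {I : Ideal R}

/-- Above the cohomological dimension the transition maps are uniformly zero. -/
theorem exists_uniform_kill (e : ℕ) (he : LocCoh.CdLE R I e) (n : ℕ) :
    ∃ m, n ≤ m ∧ ∀ (m' : ℕ) (h : n ≤ m') (_ : m ≤ m') (N : ModuleCat.{u} R) (i : ℕ), e < i →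
      ∀ x : Abelian.Ext.{u} (quot I n) N i, (Abelian.Ext.mk₀ (qmap I h)).comp x (zero_add i) = 0 := by
  obtain ⟨K, u, hu⟩ := UnivExtLib.exists_universal (quot I n) (e + 1)
  haveI : Subsingleton ((localCohomology I (e + 1)).obj K) := he K (e + 1) (Nat.lt_succ_self e)
  obtain ⟨m, hnm, hm⟩ := (ι_eq_zero_iff u).1 (Subsingleton.elim _ _)
  refine ⟨m, hnm, fun m' h hmm' N i hi x => ?_⟩
  have h0 : (Abelian.Ext.mk₀ (qmap I h)).comp u (zero_add _) = 0 := by
    rw [← qmap_comp I hnm hmm', ← Abelian.Ext.mk₀_comp_mk₀,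
      Abelian.Ext.comp_assoc_of_second_deg_zero, hm, Abelian.Ext.comp_zero]
  obtain ⟨y, rfl⟩ := hu N (i - (e + 1)) i (by omega) x
  rw [← Abelian.Ext.comp_assoc (Abelian.Ext.mk₀ (qmap I h)) u y (zero_add _) (by omega) (by omega), h0,
    Abelian.Ext.zero_comp]

end Groth.Agent.LocCohLib
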