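import Groth.Agent.TorLib.Symm
import Groth.Agent.LocCohLib.Cls
import Groth.Agent.BlowChartLib.Algebra
import Mathlib.RingTheory.Flat.Basic

/-!
# `Tor` of an affine blow-up algebra is a colimit
-/

set_option autoImplicit false
set_option linter.style.haveILetI false
set_option backward.isDefEq.respectTransparency false

universe u

open CategoryTheory Limits TensorProduct MonoidalCategory
open Groth.Agent.LocCohLib Groth.Agent.TorLib

noncomputable section

namespace Groth.Agent.UnivExtLib

variable {A : Type u} [CommRing A]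

/-- Tensoring with a flat module preserves containment of kernels. -/
theorem rTensor_eq_zero_of_ker (F : Type u) [AddCommGroup F] [Module A F] [Module.Flat A F] {N B N' : Type u}
    [AddCommGroup N] [Module A N] [AddCommGroup B] [Module A B] [AddCommGroup N'] [Module A N']
    (f : N →ₗ[A] B) (g : N →ₗ[A] N') (h : ∀ x, f x = 0 → g x = 0) (w : N ⊗[A] F)
    (hw : f.rTensor F w = 0) : g.rTensor F w = 0 := by
  have hex : Function.Exact (LinearMap.ker f).subtype f.rangeRestrict :=
    fun y => ⟨fun h => ⟨⟨y, congrArg Subtype.val h⟩, rfl⟩, fun ⟨v, hv⟩ => hv ▸ Subtype.ext v.2⟩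
  have h1 : f.rangeRestrict.rTensor F w = 0 := by
    refine Module.Flat.rTensor_preserves_injective_linearMap (M := F) (LinearMap.range f).subtype Subtype.val_injective ?_
    rw [map_zero, ← LinearMap.rTensor_comp_apply]
    exact hw
  obtain ⟨v, rfl⟩ := (rTensor_exact F hex f.surjective_rangeRestrict w).1 h1
  rw [← LinearMap.rTensor_comp_apply, show g ∘ₗ (LinearMap.ker f).subtype = 0 from
    LinearMap.ext fun x => h x.1 x.2, LinearMap.rTensor_zero, LinearMap.zero_apply]

variable (I : Ideal A) (a : A)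

/-- The inverse of `a`. -/
abbrev invA : Localization.Away a := IsLocalization.Away.invSelf a

theorem algebraMap_mul_invA : algebraMap A (Localization.Away a) a * invA a = 1 :=
  IsLocalization.Away.mul_invSelf a

theorem mul_invA_pow_mem (n : ℕ) {x : A} (hx : x ∈ I ^ n) :
    algebraMap A (Localization.Away a) x * invA a ^ n ∈ BlowUp.affineAlgebra A I a := by
  refine Submodule.pow_induction_on_left' I (C := fun k y _ => algebraMap A (Localization.Away a) y * invA a ^ k ∈ BlowUp.affineAlgebra A I a)
    (fun r => ?_) (fun x y k _ _ h₁ h₂ => ?_) (fun m hm k x _ h => ?_) hx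
  · rw [pow_zero, mul_one]; exact Subalgebra.algebraMap_mem _ r
  · rw [map_add, add_mul]; exact add_mem h₁ h₂
  · have h1 : algebraMap A (Localization.Away a) m * invA a ∈ BlowUp.affineAlgebra A I a :=
      Algebra.subset_adjoin ⟨m, hm, by
        rw [IsLocalization.eq_mk'_iff_mul_eq, mul_assoc, mul_comm (invA a), algebraMap_mul_invA, mul_one]⟩
    have h2 : algebraMap A (Localization.Away a) (m * x) * invA a ^ (k + 1) =
        algebraMap A (Localization.Away a) m * invA a * (algebraMap A (Localization.Away a) x * invA a ^ k) := by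
      rw [map_mul, pow_succ]; ring
    exact h2 ▸ mul_mem h1 h

/-- `x ↦ x / aⁿ`. -/
def stage (n : ℕ) : ↥(I ^ n) →ₗ[A] BlowUp.affineAlgebra A I a where
  toFun x := ⟨algebraMap A (Localization.Away a) x * invA a ^ n, mul_invA_pow_mem I a n x.2⟩
  map_add' x y := Subtype.ext (by
    show algebraMap A (Localization.Away a) ((x : A) + y) * invA a ^ n = algebraMap A (Localization.Away a) x * invA a ^ n + algebraMap A (Localization.Away a) y * invA a ^ n
    rw [map_add, add_mul])
  map_smul' r x := Subtype.ext (by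
    show algebraMap A (Localization.Away a) (r * x) * invA a ^ n = r • (algebraMap A (Localization.Away a) x * invA a ^ n)
    rw [map_mul, mul_assoc, Algebra.smul_def])

variable (ha : a ∈ I)

/-- `x ↦ aᵏ x`. -/
def up (n k : ℕ) : ↥(I ^ n) →ₗ[A] ↥(I ^ (n + k)) where
  toFun x := ⟨a ^ k * x, by rw [add_comm, pow_add]; exact Ideal.mul_mem_mul (Ideal.pow_mem_pow ha k) x.2⟩
  map_add' x y := Subtype.ext (mul_add _ _ _)
  map_smul' r x := Subtype.ext (mul_left_comm _ _ _)

theorem stage_up (n k : ℕ) : stage I a (n + k) ∘ₗ up I a ha n k = stage I a n := LinearMap.ext fun x => Subtype.ext (by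
  show algebraMap A (Localization.Away a) (a ^ k * x) * invA a ^ (n + k) = algebraMap A (Localization.Away a) x * invA a ^ n
  rw [map_mul, map_pow, pow_add, show algebraMap A (Localization.Away a) a ^ k * algebraMap A (Localization.Away a) x * (invA a ^ n * invA a ^ k) =
    algebraMap A (Localization.Away a) x * invA a ^ n * (algebraMap A (Localization.Away a) a * invA a) ^ k by ring,
    algebraMap_mul_invA, one_pow, mul_one])

include ha in
theorem exists_stage (b : BlowUp.affineAlgebra A I a) : ∃ (n : ℕ) (x : ↥(I ^ n)), stage I a n x = b := by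
  induction b using BlowChartLib.induction_frac with
  | halg r =>
    refine ⟨0, ⟨r, by simp⟩, Subtype.ext ?_⟩
    show algebraMap A (Localization.Away a) r * invA a ^ 0 = algebraMap A (Localization.Away a) r
    rw [pow_zero, mul_one]
  | hfrac x hx =>
    refine ⟨1, ⟨x, by rwa [pow_one]⟩, Subtype.ext ?_⟩
    show algebraMap A (Localization.Away a) x * invA a ^ 1 = IsLocalization.mk' (Localization.Away a) x ⟨a, Submonoid.mem_powers a⟩
    rw [pow_one, IsLocalization.eq_mk'_iff_mul_eq, mul_assoc, mul_comm (invA a), algebraMap_mul_invA, mul_one]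
  | hadd b b' hb hb' =>
    obtain ⟨n, x, rfl⟩ := hb
    obtain ⟨k, y, rfl⟩ := hb'
    refine ⟨n + k, up I a ha n k x + ⟨(up I a ha k n y).1, by rw [add_comm n k]; exact (up I a ha k n y).2⟩, ?_⟩
    rw [map_add, ← LinearMap.comp_apply, stage_up]
    congr 1
    rw [← LinearMap.congr_fun (stage_up I a ha k n) y]
    refine Subtype.ext ?_
    show algebraMap A (Localization.Away a) (a ^ n * y) * invA a ^ (n + k) = algebraMap A (Localization.Away a) (a ^ n * y) * invA a ^ (k + n)
    rw [add_comm n k]
  | hmul b b' hb hb' =>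
    obtain ⟨n, x, rfl⟩ := hb
    obtain ⟨k, y, rfl⟩ := hb'
    refine ⟨n + k, ⟨x * y, by rw [pow_add]; exact Ideal.mul_mem_mul x.2 y.2⟩, Subtype.ext ?_⟩
    show algebraMap A (Localization.Away a) (x * y) * invA a ^ (n + k) =
      algebraMap A (Localization.Away a) x * invA a ^ n * (algebraMap A (Localization.Away a) y * invA a ^ k)
    rw [map_mul, pow_add]; ring

theorem exists_bound [IsNoetherianRing A] : ∃ m : ℕ, ∀ (n : ℕ) (x : ↥(I ^ n)), stage I a n x = 0 → a ^ m * (x : A) = 0 := by
  obtain ⟨m, hm⟩ := monotone_stabilizes_iff_noetherian.mpr (inferInstance : IsNoetherian A A)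
    ⟨fun m => LinearMap.ker (LinearMap.lsmul A A (a ^ m)), fun i j hij x hx => by
      show a ^ j * x = 0
      obtain ⟨d, rfl⟩ := Nat.exists_eq_add_of_le hij
      rw [pow_add, mul_right_comm, show a ^ i * x = 0 from hx, zero_mul]⟩
  refine ⟨m, fun n x hx => ?_⟩
  have h0 : algebraMap A (Localization.Away a) (x : A) * invA a ^ n = 0 := congrArg Subtype.val hx
  have h1 : algebraMap A (Localization.Away a) (x : A) = 0 := by
    have h2 := congrArg (· * algebraMap A (Localization.Away a) a ^ n) h0
    simp only [zero_mul] at h2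
    rwa [mul_assoc, ← mul_pow, mul_comm (invA a), algebraMap_mul_invA, one_pow, mul_one] at h2
  obtain ⟨⟨_, k, rfl⟩, hk⟩ := (IsLocalization.map_eq_zero_iff (Submonoid.powers a) (Localization.Away a) (x : A)).1 h1
  have hk' : (x : A) ∈ LinearMap.ker (LinearMap.lsmul A A (a ^ (max m k))) := by
    show a ^ max m k * (x : A) = 0
    obtain ⟨d, hd⟩ := Nat.exists_eq_add_of_le (le_max_right m k)
    rw [hd, pow_add, mul_right_comm, show a ^ k * (x : A) = 0 from hk, zero_mul]
  have e := hm _ (le_max_left m k)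
  change LinearMap.ker (LinearMap.lsmul A A (a ^ m)) = LinearMap.ker (LinearMap.lsmul A A (a ^ max m k)) at e
  rw [← e] at hk'
  exact hk'

section Tensor

variable (F : Type u) [AddCommGroup F] [Module A F]

include ha in
theorem exists_stage_tensor (z : BlowUp.affineAlgebra A I a ⊗[A] F) :
    ∃ (n : ℕ) (w : ↥(I ^ n) ⊗[A] F), (stage I a n).rTensor F w = z := by
  induction z with
  | zero => exact ⟨0, 0, map_zero _⟩
  | tmul b f =>
    obtain ⟨n, x, rfl⟩ := exists_stage I a ha b
    exact ⟨n, x ⊗ₜ f, rfl⟩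
  | add z z' hz hz' =>
    obtain ⟨n, w, rfl⟩ := hz
    obtain ⟨k, w', rfl⟩ := hz'
    have h : ∀ (p q : ℕ) (v : ↥(I ^ p) ⊗[A] F), p + q = n + k → ∃ v' : ↥(I ^ (n + k)) ⊗[A] F,
        (stage I a (n + k)).rTensor F v' = (stage I a p).rTensor F v := fun p q v hpq => by
      rw [← hpq]
      exact ⟨(up I a ha p q).rTensor F v, by rw [← LinearMap.comp_apply, ← LinearMap.rTensor_comp, stage_up]⟩
    obtain ⟨v, hv⟩ := h n k w rfl
    obtain ⟨v', hv'⟩ := h k n w' (add_comm _ _)
    exact ⟨n + k, v + v', by rw [map_add, hv, hv']⟩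

theorem up_rTensor_eq_zero [Module.Flat A F] {m : ℕ} (hm : ∀ (n : ℕ) (x : ↥(I ^ n)), stage I a n x = 0 → a ^ m * (x : A) = 0)
    (n : ℕ) (w : ↥(I ^ n) ⊗[A] F) (hw : (stage I a n).rTensor F w = 0) : (up I a ha n m).rTensor F w = 0 :=
  rTensor_eq_zero_of_ker F (stage I a n) (up I a ha n m) (fun x hx => Subtype.ext (hm n x hx)) w hw

end Tensor

include ha in
/-- A scalar killing `Tor_i` of every stage kills `Tor_i` of the blow-up algebra. -/
theorem smul_tor_eq_zero [IsNoetherianRing A] (M : Type u) [AddCommGroup M] [Module A M] (i : ℕ) (x : A)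
    (h : ∀ (n : ℕ) (y : DRing.Tor A i ↥(I ^ n) M), x • y = 0) (y : DRing.Tor A i (BlowUp.affineAlgebra A I a) M) :
    x • y = 0 := by
  let Q := projectiveResolution (ModuleCat.of A M)
  obtain ⟨m, hm⟩ := exists_bound I a
  let B := ModuleCat.of A (BlowUp.affineAlgebra A I a)
  let e := (torIso Q B i).toLinearEquiv
  refine e.injective ((map_smul e x y).trans (Eq.trans ?_ (map_zero e).symm))
  obtain ⟨z, hz⟩ := cls_surjective (cx Q B) i (e y)
  rw [← hz]
  obtain ⟨n, w, hw⟩ := exists_stage_tensor I a ha (Q.complex.X i) z.1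
  let j := (ComplexShape.down ℕ).next i
  haveI := flat_X Q j
  let N := ModuleCat.of A ↥(I ^ (n + m))
  let w' : (cx Q N).X i := (up I a ha n m).rTensor (Q.complex.X i) w
  have hcyc : w' ∈ Zmod (cx Q N) i := by
    rw [LinearMap.mem_ker]
    have hd : ((Q.complex.d i j).hom.lTensor _) z.1 = 0 := z.2
    rw [← hw, ← LinearMap.comp_apply, LinearMap.lTensor_comp_rTensor, ← LinearMap.rTensor_comp_lTensor,
      LinearMap.comp_apply] at hd
    show ((Q.complex.d i j).hom.lTensor _) ((up I a ha n m).rTensor (Q.complex.X i) w) = 0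
    rw [← LinearMap.comp_apply, LinearMap.lTensor_comp_rTensor, ← LinearMap.rTensor_comp_lTensor,
      LinearMap.comp_apply, up_rTensor_eq_zero I a ha (Q.complex.X j) hm n _ hd]
  have h0 : x • cls (cx Q N) i ⟨w', hcyc⟩ = 0 := by
    let eN := (torIso Q N i).toLinearEquiv
    refine eN.symm.injective ((map_smul eN.symm x _).trans (Eq.trans (h (n + m) _) (map_zero eN.symm).symm))
  have h1 := congrArg (HomologicalComplex.homologyMap (cxMap Q (ModuleCat.ofHom (stage I a (n + m)) : N ⟶ B)) i).hom h0
  rw [map_smul, map_zero, homologyMap_cls] at h1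
  refine Eq.trans (congrArg (fun v => x • cls (cx Q B) i v) (Subtype.ext ?_)) h1
  show z.1 = (stage I a (n + m)).rTensor (Q.complex.X i) ((up I a ha n m).rTensor (Q.complex.X i) w)
  rw [← LinearMap.comp_apply, ← LinearMap.rTensor_comp, stage_up, hw]

end Groth.Agent.UnivExtLib
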