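import Groth.Agent.TorLib.Balance
import Groth.Agent.LocCohLib.Cls
import Mathlib.RingTheory.Filtration
import Mathlib.RingTheory.Finiteness.Cardinality

/-!
# Artin–Rees for `Tor` against powers of an ideal
-/

set_option autoImplicit false
set_option linter.style.haveILetI false
set_option backward.isDefEq.respectTransparency false

universe u

open CategoryTheory Limits TensorProduct MonoidalCategory
open Groth.Agent.LocCohLib Groth.Agent.TorLib

noncomputable section

namespace Groth.Agent.UnivExtLib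

variable {A : Type u} [CommRing A] (J : Ideal A)

/-- The module `A / J ^ n`. -/
abbrev quotP (n : ℕ) : ModuleCat.{u} A := ModuleCat.of A (A ⧸ J ^ n)

/-- The projection. -/
abbrev projP {k n : ℕ} (h : k ≤ n) : quotP J n ⟶ quotP J k :=
  ModuleCat.ofHom (Submodule.mapQ (J ^ n) (J ^ k) LinearMap.id (Ideal.pow_le_pow_right h))

variable (Q : ∀ n, ProjectiveResolution (quotP J n))

/-- The map on the homology of `M ⊗ Q_n → M ⊗ Q_k`. -/
abbrev qMap (M : ModuleCat.{u} A) {k n : ℕ} (h : k ≤ n) (j : ℕ) :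
    (cx (Q n) M).homology j ⟶ (cx (Q k) M).homology j :=
  HomologicalComplex.homologyMap (cxLeft (Q n) (Q k) M (ProjectiveResolution.lift (projP J h) (Q n) (Q k))) j

theorem exists_qMap_eq_zero [IsNoetherianRing A] (j : ℕ) :
    ∀ (M : ModuleCat.{u} A), Module.Finite A M →
      ∃ c, ∀ (k n : ℕ) (h : k ≤ n), k + c ≤ n → qMap J Q M h (j + 1) = 0 := by
  induction j with
  | zero =>
    intro M hM
    obtain ⟨g, p, hp⟩ := Module.Finite.exists_fin' A M
    let K := LinearMap.ker p
    have hS := shortExact_mk K.subtype p Subtype.val_injective hp (LinearMap.exact_subtype_ker_map p)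
    obtain ⟨c, hc⟩ := Ideal.exists_pow_inf_eq_pow_smul J K
    refine ⟨c, fun k n h hkn => ModuleCat.hom_ext (LinearMap.ext fun x => ?_)⟩
    let S := ShortComplex.mk (X₁ := ModuleCat.of A K) (X₂ := ModuleCat.of A (Fin g → A)) (X₃ := M)
      (ModuleCat.ofHom K.subtype) (ModuleCat.ofHom p)
      (ModuleCat.hom_ext (LinearMap.exact_subtype_ker_map p).linearMap_comp_eq_zero)
    haveI : Module.Flat A S.X₂ := inferInstanceAs (Module.Flat A (Fin g → A))
    let φ := ProjectiveResolution.lift (projP J h) (Q n) (Q k)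
    have hk := (cxSeq_shortExact (Q k) hS).homology_exact₃ 1 0 rfl
    haveI : Mono ((cxSeq_shortExact (Q k) hS).δ 1 0 rfl) :=
      hk.mono_g ((isZero_X₂ (Q k) (S := S) 0).eq_of_src _ _)
    apply (ModuleCat.mono_iff_injective ((cxSeq_shortExact (Q k) hS).δ 1 0 rfl)).1 inferInstance
    refine Eq.trans ?_ (map_zero _).symm
    have hnat := HomologicalComplex.HomologySequence.δ_naturality (cxSeqLeft (Q n) (Q k) S φ)
      (cxSeq_shortExact (Q n) hS) (cxSeq_shortExact (Q k) hS) 1 0 rfl
    refine (congr($(hnat).hom x)).symm.trans ?_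
    set y : (cx (Q n) S.X₁).homology 0 := ((cxSeq_shortExact (Q n) hS).δ 1 0 rfl).hom x
    have hy : (HomologicalComplex.homologyMap (cxMap (Q n) S.f) 0).hom y = 0 :=
      congr($((cxSeq_shortExact (Q n) hS).δ_comp 1 0 rfl).hom x)
    refine (h0Iso (Q k) S.X₁).toLinearEquiv.injective ?_
    rw [map_zero]
    refine (congr($(h0Iso_naturality_left (Q n) (Q k) S.X₁ (projP J h) φ
      (ProjectiveResolution.lift_commutes_zero _ _ _)).hom y)).trans ?_
    set z : ↥K ⊗[A] (A ⧸ J ^ n) := (h0Iso (Q n) S.X₁).hom.hom y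
    have hz : K.subtype.rTensor (A ⧸ J ^ n) z = 0 :=
      (congr($(h0Iso_naturality (Q n) S.f).hom y)).symm.trans
        ((congrArg (h0Iso (Q n) S.X₂).hom.hom hy).trans (map_zero _))
    show (Submodule.mapQ (J ^ n) (J ^ k) LinearMap.id (Ideal.pow_le_pow_right h)).lTensor (↥K) z = 0
    obtain ⟨κ, hκ⟩ : ∃ κ : K, κ ⊗ₜ[A] (Submodule.Quotient.mk 1 : A ⧸ J ^ n) = z := by
      obtain ⟨w, hw⟩ := Submodule.Quotient.mk_surjective _ (TensorProduct.tensorQuotEquivQuotSMul (↥K) (J ^ n) z)
      refine ⟨w, (TensorProduct.tensorQuotEquivQuotSMul (↥K) (J ^ n)).injective ?_⟩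
      rw [← hw]
      exact (TensorProduct.tensorQuotEquivQuotSMul_tmul_mk _ _ _).trans (congrArg _ (one_smul A w))
    rw [← hκ, LinearMap.rTensor_tmul] at hz
    have h1 := congrArg (TensorProduct.tensorQuotEquivQuotSMul (Fin g → A) (J ^ n)) hz
    erw [TensorProduct.tensorQuotEquivQuotSMul_tmul_mk] at h1
    rw [map_zero, one_smul, Submodule.Quotient.mk_eq_zero] at h1
    have h2 : (κ : Fin g → A) ∈ J ^ n • (⊤ : Submodule A (Fin g → A)) ⊓ K := ⟨h1, κ.2⟩
    rw [hc n (by omega)] at h2
    replace h2 := Submodule.smul_mono (Ideal.pow_le_pow_right (show k ≤ n - c by omega)) inf_le_right h2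
    have h3 : κ ∈ J ^ k • (⊤ : Submodule A K) := by
      rw [← Submodule.comap_map_eq_of_injective (f := K.subtype) Subtype.val_injective (J ^ k • ⊤),
        Submodule.map_smul'', Submodule.map_subtype_top]
      exact h2
    rw [← hκ, LinearMap.lTensor_tmul]
    refine (TensorProduct.tensorQuotEquivQuotSMul (↥K) (J ^ k)).injective ?_
    refine (TensorProduct.tensorQuotEquivQuotSMul_tmul_mk _ _ _).trans (Eq.trans ?_ (map_zero _).symm)
    rw [LinearMap.id_apply, one_smul, Submodule.Quotient.mk_eq_zero]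
    exact h3
  | succ j ih =>
    intro M hM
    obtain ⟨g, p, hp⟩ := Module.Finite.exists_fin' A M
    let K := LinearMap.ker p
    obtain ⟨c, hc⟩ := ih (ModuleCat.of A K) (inferInstanceAs (Module.Finite A K))
    have hS := shortExact_mk K.subtype p Subtype.val_injective hp (LinearMap.exact_subtype_ker_map p)
    refine ⟨c, fun k n h hkn => ?_⟩
    let S := ShortComplex.mk (X₁ := ModuleCat.of A K) (X₂ := ModuleCat.of A (Fin g → A)) (X₃ := M)
      (ModuleCat.ofHom K.subtype) (ModuleCat.ofHom p)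
      (ModuleCat.hom_ext (LinearMap.exact_subtype_ker_map p).linearMap_comp_eq_zero)
    haveI : Module.Flat A S.X₂ := inferInstanceAs (Module.Flat A (Fin g → A))
    have hn := shiftIso_nat_left (P := Q n) (Q := Q k) (S := S) hS (ProjectiveResolution.lift (projP J h) (Q n) (Q k)) j
    rw [show HomologicalComplex.homologyMap (cxLeft (Q n) (Q k) S.X₁
      (ProjectiveResolution.lift (projP J h) (Q n) (Q k))) (j + 1) = 0 from hc k n h hkn, comp_zero] at hn
    rw [← cancel_mono (shiftIso (Q k) hS j).hom, zero_comp]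
    exact hn

end Groth.Agent.UnivExtLib
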